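import Cfsg.Agent.Lib.Recog.SemilinearGroups.Field
import Mathlib.LinearAlgebra.FiniteDimensional.Lemmas

/-!
# Linear independence of a class two normal subgroup
-/

set_option autoImplicit false

namespace Cfsg.Agent.Recog.SemiLin

universe u v

variable {G : Type v} [Group G]

/-- The centre, as a subgroup of the whole group. -/
def zc (U : Subgroup G) : Subgroup G := U ⊓ Subgroup.centralizer (U : Set G)

lemma mem_zc {U : Subgroup G} {z : G} : z ∈ zc U ↔ z ∈ U ∧ ∀ u ∈ U, u * z = z * u := by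
  rw [zc, Subgroup.mem_inf, Subgroup.mem_centralizer_iff]
  rfl

lemma zc_comm (U : Subgroup G) : ∀ a ∈ zc U, ∀ b ∈ zc U, a * b = b * a :=
  fun _ ha _ hb => (mem_zc.1 hb).2 _ (mem_zc.1 ha).1

lemma zc_normal {U : Subgroup G} (hU : U.Normal) : (zc U).Normal := by
  refine ⟨fun z hz g => ?_⟩
  rw [mem_zc] at hz ⊢
  refine ⟨hU.conj_mem z hz.1 g, fun u hu => ?_⟩
  have h1 := congrArg (fun w => g * w * g⁻¹) (hz.2 _ (hU.conj_mem u hu g⁻¹))
  simpa [mul_assoc] using h1

variable {q : ℕ} [Fact q.Prime] {V : Type u} [AddCommGroup V] [Module (ZMod q) V] [Finite V]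
  [Nontrivial V] [Finite G] (ρ : G →* (V ≃ₗ[ZMod q] V))

/-- Independence over the field of the centre. -/
lemma indep (ht : IsTrans ρ) (hρ : Function.Injective ρ) {U : Subgroup G} (hU : U.Normal)
    (hcl : ∀ a ∈ U, ∀ b ∈ U, a * b * a⁻¹ * b⁻¹ ∈ zc U)
    (sec : (U ⧸ (zc U).subgroupOf U) → U) (hsec : ∀ w, (sec w : U ⧸ (zc U).subgroupOf U) = w)
    (S : Finset (U ⧸ (zc U).subgroupOf U)) :
    ∀ c : (U ⧸ (zc U).subgroupOf U) → algOf ρ (zc U),
      ∑ w ∈ S, (c w : Module.End (ZMod q) V) * opHom ρ (sec w : G) = 0 → ∀ w ∈ S, c w = 0 := by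
  classical
  letI := (isField ρ ht (zc_normal hU) (zc_comm U)).toField
  induction S using Finset.induction with
  | empty => simp
  | insert w₀ S hw ih =>
    intro c hc
    have hz : ∀ (v : U) (w : U ⧸ (zc U).subgroupOf U),
        (v : G) * sec w * (v : G)⁻¹ * (sec w : G)⁻¹ ∈ zc U := fun v w => hcl _ v.2 _ (sec w).2
    let z : U → (U ⧸ (zc U).subgroupOf U) → algOf ρ (zc U) := fun v w =>
      ⟨opHom ρ ((v : G) * sec w * (v : G)⁻¹ * (sec w : G)⁻¹), opHom_mem ρ (hz v w)⟩
    have hv : ∀ v : U, ∑ w ∈ insert w₀ S,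
        ((c w * z v w : algOf ρ (zc U)) : Module.End (ZMod q) V) * opHom ρ (sec w : G) = 0 := by
      intro v
      have h1 : opHom ρ (v : G) * (∑ w ∈ insert w₀ S, (c w : Module.End (ZMod q) V) * opHom ρ (sec w : G)) *
          opHom ρ (v : G)⁻¹ = 0 := by rw [hc, mul_zero, zero_mul]
      rw [Finset.mul_sum, Finset.sum_mul] at h1
      refine (Finset.sum_congr rfl fun w _ => ?_).trans h1
      have h2 : opHom ρ (v : G) * (c w : Module.End (ZMod q) V) = c w * opHom ρ (v : G) :=
        ((commute_of_mem ρ (v : G) (fun a ha => ((mem_zc.1 ha).2 _ v.2).symm) (c w).2).eq).symm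
      simp only [z, MulMemClass.coe_mul]
      rw [← mul_assoc (opHom ρ (v : G)), h2, mul_assoc (c w : Module.End (ZMod q) V), ← map_mul,
        mul_assoc (c w : Module.End (ZMod q) V), mul_assoc (c w : Module.End (ZMod q) V), ← map_mul,
        ← map_mul, inv_mul_cancel_right]
    have hdiff : ∀ v : U, ∀ w ∈ S, c w * (z v w - z v w₀) = 0 := by
      intro v
      apply ih fun w => c w * (z v w - z v w₀)
      have h0 : ∑ w ∈ insert w₀ S,
          ((c w * (z v w - z v w₀) : algOf ρ (zc U)) : Module.End (ZMod q) V) * opHom ρ (sec w : G) =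
          0 := by
        simp only [mul_sub, AddSubgroupClass.coe_sub, sub_mul, Finset.sum_sub_distrib, hv v, zero_sub,
          neg_eq_zero]
        have h1 : ∀ w, ((c w * z v w₀ : algOf ρ (zc U)) : Module.End (ZMod q) V) =
            (z v w₀ : Module.End (ZMod q) V) * c w := fun w => by
          rw [mul_comm (c w), MulMemClass.coe_mul]
        simp only [h1, mul_assoc, ← Finset.mul_sum, hc, mul_zero]
      rw [Finset.sum_insert hw, sub_self, mul_zero, ZeroMemClass.coe_zero, zero_mul, zero_add] at h0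
      exact h0
    have hS : ∀ w ∈ S, c w = 0 := by
      intro w hwS
      by_contra hcw
      have hzz : ∀ v : U, z v w = z v w₀ := fun v =>
        sub_eq_zero.1 ((mul_eq_zero.1 (hdiff v w hwS)).resolve_left hcw)
      refine hw (?_ : w₀ ∈ S)
      suffices w = w₀ by rwa [← this]
      rw [← hsec w, ← hsec w₀, QuotientGroup.eq, Subgroup.mem_subgroupOf, mem_zc]
      refine ⟨((sec w)⁻¹ * sec w₀).2, fun u hu => ?_⟩
      have h1 : (u * sec w * u⁻¹ * (sec w : G)⁻¹ : G) = u * sec w₀ * u⁻¹ * (sec w₀ : G)⁻¹ :=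
        opHom_injective ρ hρ (congrArg Subtype.val (hzz ⟨u, hu⟩))
      have h2 := (mem_zc.1 (hz ⟨u, hu⟩ w)).2
      push_cast
      have h3 : (u * sec w * u⁻¹ : G) = (u * sec w₀ * u⁻¹ * (sec w₀ : G)⁻¹) * sec w := by
        rw [← h1]; group
      have h4 := (mem_zc.1 (hz ⟨u, hu⟩ w₀)).2 _ (sec w).2
      simp only at h4
      rw [← h4] at h3
      -- `u a u⁻¹ = a u b u⁻¹ b⁻¹`
      have h5 : (sec w : G)⁻¹ * (u * sec w * u⁻¹) = u * sec w₀ * u⁻¹ * (sec w₀ : G)⁻¹ := by
        rw [h3]; group
      have h6 : (sec w : G)⁻¹ * u * sec w = u * sec w₀ * u⁻¹ * (sec w₀ : G)⁻¹ * u := by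
        rw [← h5]; group
      have h7 := (mem_zc.1 (hz ⟨u, hu⟩ w₀)).2 u hu
      simp only at h7
      have h8 : (sec w : G)⁻¹ * u * sec w = u * (u * sec w₀ * u⁻¹ * (sec w₀ : G)⁻¹) := by
        rw [h6, h7]
      have h9 : (sec w₀ : G) * u⁻¹ * (sec w₀ : G)⁻¹ * u = (u * sec w₀ * u⁻¹ * (sec w₀ : G)⁻¹) := by
        rw [← mul_left_inj u⁻¹]
        have := congrArg (fun t => u⁻¹ * t * u⁻¹) h7
        simp only [mul_assoc, mul_inv_cancel, mul_one, inv_mul_cancel_left] at this
        simp only [mul_assoc, mul_inv_cancel, mul_one]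
        exact this.symm
      have h10 : (sec w : G) * u⁻¹ * (sec w : G)⁻¹ * u = (u * sec w₀ * u⁻¹ * (sec w₀ : G)⁻¹) := by
        rw [← h1, ← mul_left_inj u⁻¹]
        have h7' := h2 u hu
        simp only at h7'
        have := congrArg (fun t => u⁻¹ * t * u⁻¹) h7'
        simp only [mul_assoc, mul_inv_cancel, mul_one, inv_mul_cancel_left] at this
        simp only [mul_assoc, mul_inv_cancel, mul_one]
        exact this.symm
      have h11 : (sec w : G) * u⁻¹ * (sec w : G)⁻¹ = (sec w₀ : G) * u⁻¹ * (sec w₀ : G)⁻¹ :=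
        mul_right_cancel (h10.trans h9.symm)
      have h12 : (sec w : G) * u * (sec w : G)⁻¹ = (sec w₀ : G) * u * (sec w₀ : G)⁻¹ := by
        have := congrArg (fun t => t⁻¹) h11
        simpa [mul_assoc] using this
      calc u * ((sec w : G)⁻¹ * sec w₀)
          = (sec w : G)⁻¹ * ((sec w : G) * u * (sec w : G)⁻¹) * sec w₀ := by group
        _ = (sec w : G)⁻¹ * ((sec w₀ : G) * u * (sec w₀ : G)⁻¹) * sec w₀ := by rw [h12]
        _ = (sec w : G)⁻¹ * sec w₀ * u := by group
    intro w hwm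
    rcases Finset.mem_insert.1 hwm with rfl | h
    · rw [Finset.sum_insert hw, Finset.sum_eq_zero (fun x hx => by rw [hS x hx]; simp), add_zero] at hc
      have h1 : (c w : Module.End (ZMod q) V) = 0 := by
        have := congrArg (fun t => t * opHom ρ (sec w : G)⁻¹) hc
        simpa [mul_assoc, ← map_mul] using this
      exact Subtype.ext h1
    · exact hS w h

/-- The bound, and scalar centraliser in the extreme case. -/
lemma bound (ht : IsTrans ρ) (hρ : Function.Injective ρ) {U : Subgroup G} (hU : U.Normal)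
    (hcl : ∀ a ∈ U, ∀ b ∈ U, a * b * a⁻¹ * b⁻¹ ∈ zc U) :
    (zc U).relIndex U ≤ Module.finrank (ZMod q) V ^ 2 ∧
    (Module.finrank (ZMod q) V ^ 2 ≤ (zc U).relIndex U →
      Nat.card (Subgroup.centralizer (U : Set G)) ∣ q - 1) := by
  classical
  have : Fintype (U ⧸ (zc U).subgroupOf U) := Fintype.ofFinite _
  let sec : (U ⧸ (zc U).subgroupOf U) → U := Quotient.out
  have hsec : ∀ w, (sec w : U ⧸ (zc U).subgroupOf U) = w := QuotientGroup.out_eq'
  let ψ : ((U ⧸ (zc U).subgroupOf U) → algOf ρ (zc U)) →+ Module.End (ZMod q) V :=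
    { toFun := fun c => ∑ w, (c w : Module.End (ZMod q) V) * opHom ρ (sec w : G)
      map_zero' := by simp
      map_add' := fun c c' => by simp [add_mul, Finset.sum_add_distrib] }
  have hψ : Function.Injective ψ := (injective_iff_map_eq_zero ψ).2 fun c hc =>
    funext fun w => indep ρ ht hρ hU hcl sec hsec Finset.univ c hc w (Finset.mem_univ _)
  have hEnd : Nat.card (Module.End (ZMod q) V) = q ^ (Module.finrank (ZMod q) V ^ 2) := by
    rw [Module.natCard_eq_pow_finrank (K := ZMod q), Nat.card_zmod, Module.finrank_linearMap, pow_two]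
  have hsrc : Nat.card ((U ⧸ (zc U).subgroupOf U) → algOf ρ (zc U)) =
      q ^ (deg ρ (zc U) * (zc U).relIndex U) := by
    rw [Nat.card_fun, card_algOf, ← pow_mul]
    rfl
  have hle := Nat.card_le_card_of_injective ψ hψ
  rw [hEnd, hsrc] at hle
  have hle' := (Nat.pow_le_pow_iff_right (Fact.out : q.Prime).one_lt).1 hle
  have hd := deg_pos ρ (zc U)
  refine ⟨le_trans (Nat.le_mul_of_pos_left _ hd) hle', fun hge => ?_⟩
  have hsurj : Function.Surjective ψ := by
    refine ((Nat.bijective_iff_injective_and_card _).2 ⟨hψ, ?_⟩).2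
    rw [hEnd, hsrc]
    congr 1
    exact le_antisymm hle' (hge.trans (Nat.le_mul_of_pos_left _ hd))
  obtain ⟨x, hx⟩ := exists_ne (0 : V)
  have hscalar : ∀ g ∈ Subgroup.centralizer (U : Set G), ∃ c : (ZMod q)ˣ, ∀ y : V,
      ρ g y = (c : ZMod q) • y := by
    intro g hg
    have hcomm : ∀ f : Module.End (ZMod q) V, Commute f (opHom ρ g) := by
      intro f
      obtain ⟨c, rfl⟩ := hsurj f
      refine Commute.sum_left _ _ _ fun w _ => ?_
      have hgw : (sec w : G) * g = g * sec w := Subgroup.mem_centralizer_iff.1 hg _ (sec w).2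
      refine Commute.mul_left (commute_of_mem ρ g (fun a ha => ?_) (c w).2) ?_
      · exact Subgroup.mem_centralizer_iff.1 hg a (mem_zc.1 ha).1
      · rw [Commute, SemiconjBy, ← map_mul, ← map_mul, hgw]
    obtain ⟨φ, hφ⟩ : ∃ φ : V →ₗ[ZMod q] ZMod q, φ x = 1 :=
      by
        obtain ⟨φ, hφ⟩ := LinearMap.exists_leftInverse_of_injective
          (LinearMap.toSpanSingleton (ZMod q) V x) (LinearMap.ker_toSpanSingleton (ZMod q) hx)
        exact ⟨φ, by simpa using LinearMap.congr_fun hφ 1⟩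
    have hy : ∀ y : V, ρ g y = φ (ρ g x) • y := by
      intro y
      have h := congrArg (fun f : Module.End (ZMod q) V => f x) (hcomm (φ.smulRight y)).eq
      simp only [Module.End.mul_apply, LinearMap.smulRight_apply, hφ, one_smul, opHom_apply] at h
      exact h.symm
    refine ⟨Units.mk0 (φ (ρ g x)) fun h => hx ((ρ g).map_eq_zero_iff.1 ?_), hy⟩
    rw [hy x, h, zero_smul]
  choose cf hcf using hscalar
  let f : Subgroup.centralizer (U : Set G) →* (ZMod q)ˣ :=
    { toFun := fun g => cf g.1 g.2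
      map_one' := by
        apply Units.ext
        have h := hcf 1 (one_mem _) x
        rw [map_one] at h
        change x = _ at h
        exact (smul_left_injective _ hx (by simpa using h)).symm
      map_mul' := fun g h => by
        apply Units.ext
        have h1 := hcf _ (mul_mem g.2 h.2) x
        rw [map_mul, LinearEquiv.mul_apply, hcf _ h.2, map_smul, hcf _ g.2, smul_smul] at h1
        rw [Units.val_mul, mul_comm]
        exact (smul_left_injective _ hx h1).symm }
  have hf : Function.Injective f := fun g h e => Subtype.ext (hρ (LinearEquiv.ext fun y => by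
    rw [hcf _ g.2, hcf _ h.2]
    exact congrArg (fun c : (ZMod q)ˣ => (c : ZMod q) • y) e))
  have h := Subgroup.card_dvd_of_injective f hf
  rwa [Nat.card_units, Nat.card_zmod] at h

end Cfsg.Agent.Recog.SemiLin
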