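import Mathlib.FieldTheory.Finite.Basic
import Mathlib.FieldTheory.Galois.Basic
import Mathlib.GroupTheory.PGroup
import Mathlib.LinearAlgebra.LinearIndependent.Basic
import Mathlib.RingTheory.Polynomial.Basic
import Mathlib.Algebra.Algebra.ZMod
import Mathlib.FieldTheory.Finite.GaloisField
import Mathlib.Algebra.Group.Subgroup.Finite
import Mathlib.Data.Finite.Set
import Mathlib.Data.SetLike.Fintype

/-!
# An automorphism of prime order of a group with a non-degenerate pairing
-/

set_option autoImplicit false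

namespace Cfsg.Agent.Recog.SemiLin

open Polynomial

universe u v

lemma card_hom_le {M : Type u} [Group M] [Finite M] {K : Type v} [Field K] [Finite K] :
    Nat.card (M →* Kˣ) ≤ Nat.card M := by
  classical
  have : Fintype M := Fintype.ofFinite _
  have : Finite (M →* K) := Finite.of_injective _ DFunLike.coe_injective
  have : Fintype (M →* K) := Fintype.ofFinite _
  have h := (linearIndependent_monoidHom M K).fintype_card_le_finrank
  rw [Module.finrank_fintype_fun_eq_card, ← Nat.card_eq_fintype_card, ← Nat.card_eq_fintype_card] at h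
  refine le_trans (Nat.card_le_card_of_injective (fun f : M →* Kˣ => (Units.coeHom K).comp f)
    fun f g e => MonoidHom.ext fun m => Units.ext ?_) h
  exact DFunLike.congr_fun e m

/-- Fixed points of an automorphism of prime order. -/
lemma card_modEq_fixed {M : Type u} [Group M] [Finite M] (α : MulAut M) {r : ℕ} [Fact r.Prime]
    (hr : α ^ r = 1) : Nat.card M ≡ Nat.card {m : M // α m = m} [MOD r] := by
  have hp : IsPGroup r (Subgroup.zpowers α) := by
    rintro ⟨g, k, rfl⟩
    refine ⟨1, Subtype.ext ?_⟩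
    show (α ^ k) ^ (r ^ 1) = 1
    rw [pow_one, ← zpow_natCast, zpow_comm, zpow_natCast, hr, one_zpow]
  have h := hp.card_modEq_card_fixedPoints M
  refine h.trans (congrArg (· % r) (Nat.card_congr (Equiv.subtypeEquivRight fun m => ?_)))
  constructor
  · intro hm; exact hm ⟨α, Subgroup.mem_zpowers α⟩
  · rintro hm ⟨g, k, rfl⟩
    exact (MulAction.stabilizer (MulAut M) m).zpow_mem (show α • m = m from hm) k

variable {W : Type u} [CommGroup W] [Finite W] {K : Type v} [Field K] [Finite K]

/-- The field generated by an irreducible automorphism, with its involution. -/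
lemma even_exponent {s : ℕ} [Fact s.Prime] (hs : ∀ w : W, w ^ s = 1) [Nontrivial W]
    (β : W →* W →* Kˣ) (hnd : ∀ b, (∀ a, β a b = 1) → b = 1)
    (α : MulAut W) (hα : ∀ a b, β (α a) (α b) = β a b) {r : ℕ} (hr3 : 3 ≤ r) (hr : r.Prime)
    (hαr : α ^ r = 1) (hα1 : α ≠ 1)
    (hirr : ∀ L : Subgroup W, (∀ a ∈ L, α a ∈ L) → L = ⊥ ∨ L = ⊤) :
    ∃ i : ℕ, Nat.card W = s ^ (2 * i) := by
  classical
  let a : AddMonoid.End (Additive W) := MonoidHom.toAdditive α.toMonoidHom
  have ha : ∀ x : W, a (Additive.ofMul x) = Additive.ofMul (α x) := fun x => rfl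
  have hapow : ∀ (k : ℕ) (x : W), (a ^ k) (Additive.ofMul x) = Additive.ofMul ((α ^ k) x) := by
    intro k
    induction k with
    | zero => intro x; rfl
    | succ k ih =>
      intro x
      rw [pow_succ, pow_succ]
      show (a ^ k) (a (Additive.ofMul x)) = _
      rw [ha, ih]; rfl
  have har : a ^ r = 1 := by
    refine AddMonoidHom.ext fun x => ?_
    obtain ⟨x, rfl⟩ := Additive.ofMul.surjective x
    exact (hapow r x).trans (by rw [hαr]; rfl)
  let φ : ℤ[X] →ₐ[ℤ] AddMonoid.End (Additive W) := aeval a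
  let S : Subalgebra ℤ (AddMonoid.End (Additive W)) := φ.range
  have hcomm : ∀ P Q : ℤ[X], φ P * φ Q = φ Q * φ P := fun P Q => by rw [← map_mul, mul_comm, map_mul]
  have hinj : ∀ P, φ P ≠ 0 → ∀ x, φ P x = 0 → x = 0 := by
    intro P hP x hx
    let L : Subgroup W :=
      { carrier := {w | φ P (Additive.ofMul w) = 0}
        one_mem' := map_zero (φ P)
        mul_mem' := fun {u v} hu hv => by
          show φ P (Additive.ofMul (u * v)) = 0
          rw [ofMul_mul, map_add, hu, hv, add_zero]
        inv_mem' := fun {u} hu => by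
          show φ P (Additive.ofMul u⁻¹) = 0
          rw [ofMul_inv, map_neg, hu, neg_zero] }
    have hL : ∀ w ∈ L, α w ∈ L := by
      intro w hw
      show φ P (Additive.ofMul (α w)) = 0
      have h1 := DFunLike.congr_fun (hcomm P X) (Additive.ofMul w)
      rw [show φ X = a from aeval_X a] at h1
      change φ P (a (Additive.ofMul w)) = a (φ P (Additive.ofMul w)) at h1
      rw [ha, hw, map_zero] at h1
      exact h1
    rcases hirr L hL with h | h
    · obtain ⟨x, rfl⟩ := Additive.ofMul.surjective x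
      have : x ∈ L := hx
      rw [h, Subgroup.mem_bot] at this
      rw [this]; rfl
    · refine absurd (AddMonoidHom.ext fun y => ?_) hP
      obtain ⟨y, rfl⟩ := Additive.ofMul.surjective y
      have : y ∈ L := h ▸ Subgroup.mem_top y
      exact this
  obtain ⟨w₀, hw₀⟩ := exists_ne (1 : W)
  have hne0 : Additive.ofMul w₀ ≠ 0 := fun h => hw₀ (Additive.ofMul.injective h)
  have hev : Function.Bijective fun f : S => (f : AddMonoid.End (Additive W)) (Additive.ofMul w₀) := by
    constructor
    · rintro ⟨_, P, rfl⟩ ⟨_, Q, rfl⟩ h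
      apply Subtype.ext
      by_contra hne
      refine hne0 (hinj (P - Q) (by rw [map_sub, sub_ne_zero]; exact hne) _ ?_)
      rw [map_sub]
      show φ P (Additive.ofMul w₀) - φ Q (Additive.ofMul w₀) = 0
      rw [sub_eq_zero]; exact h
    · let L : Subgroup W :=
        { carrier := {w | ∃ P, φ P (Additive.ofMul w₀) = Additive.ofMul w}
          one_mem' := ⟨0, by rw [map_zero]; rfl⟩
          mul_mem' := by
            rintro u v ⟨P, hP⟩ ⟨Q, hQ⟩
            refine ⟨P + Q, ?_⟩
            rw [map_add, ofMul_mul, ← hP, ← hQ]; rfl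
          inv_mem' := by
            rintro u ⟨P, hP⟩
            refine ⟨-P, ?_⟩
            rw [map_neg, ofMul_inv, ← hP]; rfl }
      have hL : ∀ w ∈ L, α w ∈ L := by
        rintro w ⟨P, hP⟩
        refine ⟨X * P, ?_⟩
        rw [map_mul, show φ X = a from aeval_X a]
        show a (φ P (Additive.ofMul w₀)) = _
        rw [hP, ha]
      rcases hirr L hL with h | h
      · have : w₀ ∈ L := ⟨1, by rw [map_one]; rfl⟩
        rw [h, Subgroup.mem_bot] at this
        exact absurd this hw₀
      · intro x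
        obtain ⟨x, rfl⟩ := Additive.ofMul.surjective x
        obtain ⟨P, hP⟩ : x ∈ L := h ▸ Subgroup.mem_top x
        exact ⟨⟨φ P, P, rfl⟩, hP⟩
  have hScard : Nat.card S = Nat.card W := Nat.card_congr (Equiv.ofBijective _ hev)
  have : Finite S := Finite.of_equiv _ (Equiv.ofBijective _ hev).symm
  have hfield : IsField S := by
    have : Nontrivial (Additive W) := inferInstance
    refine ⟨⟨0, 1, fun h => hne0 ?_⟩, ?_, fun {f} hf => ?_⟩
    · exact (congrArg (fun f : S => (f : AddMonoid.End (Additive W)) (Additive.ofMul w₀)) h).symm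
    · rintro ⟨_, P, rfl⟩ ⟨_, Q, rfl⟩
      exact Subtype.ext (hcomm P Q)
    · obtain ⟨_, P, rfl⟩ := f
      have hP : φ P ≠ 0 := fun h => hf (Subtype.ext h)
      have hi : Function.Injective fun g : S => (⟨φ P, P, rfl⟩ : S) * g := by
        intro g g' h
        apply Subtype.ext
        refine AddMonoidHom.ext fun x => sub_eq_zero.1 (hinj P hP _ ?_)
        rw [map_sub, sub_eq_zero]
        exact congrArg (fun f : S => (f : AddMonoid.End (Additive W)) x) h
      obtain ⟨g, hg⟩ := (Finite.injective_iff_surjective.1 hi) 1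
      exact ⟨g, hg⟩
  -- adjoint
  have hadj : ∀ (P : ℤ[X]) (u v : W),
      β (Additive.toMul (φ P (Additive.ofMul u))) v =
        β u (Additive.toMul (φ (P.comp (X ^ (r - 1))) (Additive.ofMul v))) := by
    intro P
    induction P using Polynomial.induction_on' with
    | add P Q hP hQ =>
      intro u v
      rw [map_add, add_comp, map_add]
      show β (_ * _) v = β u (_ * _)
      rw [map_mul, MonoidHom.mul_apply, map_mul]
      exact congrArg₂ (· * ·) (hP u v) (hQ u v)
    | monomial k c =>
      intro u v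
      have hX : ∀ (k : ℕ) (x : W), φ (monomial k c) (Additive.ofMul x) = Additive.ofMul (((α ^ k) x) ^ c) := by
        intro k x
        rw [← C_mul_X_pow_eq_monomial, map_mul, aeval_C, map_pow, show φ X = a from aeval_X a]
        show (algebraMap ℤ (AddMonoid.End (Additive W)) c) ((a ^ k) (Additive.ofMul x)) = _
        rw [hapow, algebraMap_int_eq, eq_intCast, AddMonoid.End.intCast_apply, ofMul_zpow]
      have hcomp : (monomial k c).comp (X ^ (r - 1)) = monomial ((r - 1) * k) c := by
        rw [monomial_comp, ← pow_mul, C_mul_X_pow_eq_monomial]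
      rw [hX, hcomp, hX, toMul_ofMul, toMul_ofMul, map_zpow, MonoidHom.zpow_apply, map_zpow]
      congr 1
      have hinv : ∀ (j : ℕ) (x y : W), β ((α ^ j) x) ((α ^ j) y) = β x y := by
        intro j
        induction j with
        | zero => intros; rfl
        | succ j ih =>
          intro x y
          rw [pow_succ', MulAut.mul_apply, MulAut.mul_apply, hα, ih]
      conv_rhs => rw [← hinv k]
      congr 1
      rw [← MulAut.mul_apply, ← pow_add, show k + (r - 1) * k = r * k by
        obtain ⟨r', rfl⟩ : ∃ r', r = r' + 1 := ⟨r - 1, by omega⟩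
        simp; ring, pow_mul, hαr, one_pow]
      rfl
  let π : ℤ[X] →+* S := φ.rangeRestrict.toRingHom
  have hπ : Function.Surjective π := AlgHom.rangeRestrict_surjective φ
  let ψ : ℤ[X] →+* S := π.comp (compRingHom (X ^ (r - 1)))
  have hker : RingHom.ker π ≤ RingHom.ker ψ := by
    intro P hP
    rw [RingHom.mem_ker] at hP ⊢
    have hP' : φ P = 0 := congrArg Subtype.val hP
    apply Subtype.ext
    show φ (P.comp (X ^ (r - 1))) = 0
    refine AddMonoidHom.ext fun y => ?_
    obtain ⟨y, rfl⟩ := Additive.ofMul.surjective y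
    have h := hnd (Additive.toMul (φ (P.comp (X ^ (r - 1))) (Additive.ofMul y))) fun u => by
      rw [← hadj, hP']
      exact (congrArg (fun f : W →* Kˣ => f y) (map_one β)).trans rfl
    exact Additive.toMul.injective h
  letI := hfield.toField
  let σ : S →+* S := π.liftOfSurjective hπ ⟨ψ, hker⟩
  have hσ : ∀ P, σ (π P) = π (P.comp (X ^ (r - 1))) := fun P =>
    RingHom.liftOfRightInverse_comp_apply π _ (Function.rightInverse_surjInv hπ) ⟨ψ, hker⟩ P
  have hπX : ∀ j, (π (X ^ j) : AddMonoid.End (Additive W)) = a ^ j := fun j => by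
    show φ (X ^ j) = _
    rw [map_pow, show φ X = a from aeval_X a]
  have hσσ : ∀ f, σ (σ f) = f := by
    intro f
    obtain ⟨P, rfl⟩ := hπ f
    rw [hσ, hσ, comp_assoc, pow_comp, X_comp, ← pow_mul]
    apply Subtype.ext
    show aeval a (P.comp (X ^ ((r - 1) * (r - 1)))) = aeval a P
    rw [aeval_comp, map_pow, aeval_X]
    congr 2
    obtain ⟨r', rfl⟩ : ∃ r', r = r' + 2 := ⟨r - 2, by omega⟩
    rw [show (r' + 2 - 1) * (r' + 2 - 1) = (r' + 2) * r' + 1 by simp; ring, pow_succ, pow_mul, har,
      one_pow, one_mul]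
  have hσ1 : ∃ f, σ f ≠ f := by
    refine ⟨π X, fun h => hα1 ?_⟩
    rw [hσ, X_comp] at h
    have h1 : a ^ (r - 1) = a ^ 1 := by
      rw [← hπX, h, ← hπX, pow_one]
    have h2 : α ^ (r - 1) = α ^ 1 := MulEquiv.ext fun x => by
      have := DFunLike.congr_fun h1 (Additive.ofMul x)
      rw [hapow, hapow] at this
      exact Additive.ofMul.injective this
    have h3 : α ^ (r - 2) = 1 := by
      have : α ^ (r - 2) * α ^ 1 = 1 * α ^ 1 := by
        rw [← pow_add, show r - 2 + 1 = r - 1 by omega, h2, one_mul]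
      exact mul_right_cancel this
    have := Fact.mk hr
    have h4 : orderOf α = r := orderOf_eq_prime hαr hα1
    have h5 := orderOf_dvd_of_pow_eq_one h3
    rw [h4] at h5
    exact absurd (Nat.le_of_dvd (by omega) h5) (by omega)
  have : CharP S s := (CharP.charP_iff_prime_eq_zero (Fact.out : s.Prime)).2 (by
    apply Subtype.ext
    refine AddMonoidHom.ext fun x => ?_
    obtain ⟨x, rfl⟩ := Additive.ofMul.surjective x
    show ((s : S) : AddMonoid.End (Additive W)) (Additive.ofMul x) = 0
    rw [show ((s : S) : AddMonoid.End (Additive W)) = (s : AddMonoid.End (Additive W)) from map_natCast S.val s,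
      AddMonoid.End.natCast_apply, ← ofMul_pow, hs]
    rfl)
  letI := ZMod.algebra S s
  have : Module.Finite (ZMod s) S := Module.Finite.of_finite
  let σe : S ≃ₐ[ZMod s] S := AlgEquiv.ofRingEquiv (f := RingEquiv.ofRingHom σ σ (RingHom.ext hσσ) (RingHom.ext hσσ))
    fun c => by
      show σ (algebraMap (ZMod s) S c) = algebraMap (ZMod s) S c
      exact RingHom.congr_fun (Subsingleton.elim (σ.comp (algebraMap (ZMod s) S)) (algebraMap (ZMod s) S)) c
  have hord : orderOf σe = 2 := by
    refine orderOf_eq_prime (AlgEquiv.ext fun f => hσσ f) fun h => ?_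
    obtain ⟨f, hf⟩ := hσ1
    exact hf (AlgEquiv.congr_fun h f)
  have hdvd := orderOf_dvd_natCard σe
  rw [hord, IsGalois.card_aut_eq_finrank] at hdvd
  obtain ⟨i, hi⟩ := hdvd
  refine ⟨i, ?_⟩
  rw [← hScard, Module.natCard_eq_pow_finrank (K := ZMod s), Nat.card_zmod, hi]

/-- The extremal bound. -/
theorem pairing_bound {s : ℕ} [Fact s.Prime] (hs : ∀ w : W, w ^ s = 1)
    (β : W →* W →* Kˣ) (hnd : ∀ a, (∀ b, β a b = 1) → a = 1)
    (α : MulAut W) (hα : ∀ a b, β (α a) (α b) = β a b) {r : ℕ} (hr : r.Prime) (hrs : r ≠ s)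
    (hαr : α ^ r = 1) (hα1 : α ≠ 1) {n : ℕ} (hn : 2 ≤ n) (hnr : n < r) (hW : Nat.card W ≤ n ^ 2) :
    ∃ i : ℕ, r = s ^ i + 1 ∧ n = s ^ i ∧ Nat.card W = n ^ 2 := by
  classical
  have := Fact.mk hr
  let D : Subgroup W := (α.toMonoidHom / MonoidHom.id W).range
  have hDfix : ∀ y ∈ D, α y = y → y = 1 := by
    rintro _ ⟨a, rfl⟩ h
    have h1 : ∀ k : ℕ, (α ^ k) a = (α a / a) ^ k * a := by
      intro k
      induction k with
      | zero => simp
      | succ k ih =>
        rw [pow_succ', MulAut.mul_apply, ih, map_mul, map_pow]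
        change α (α a / a) = α a / a at h
        rw [h, pow_succ, mul_assoc, div_mul_cancel]
    have h2 := h1 r
    rw [hαr, MulAut.one_apply, eq_comm, mul_eq_right] at h2
    show α a / a = 1
    have h3 : (α a / a) ^ Nat.gcd r s = 1 := pow_gcd_eq_one.2 ⟨h2, hs _⟩
    rwa [Nat.Coprime.gcd_eq_one ((Nat.coprime_primes hr (Fact.out : s.Prime)).2 hrs), pow_one] at h3
  have hDne : D ≠ ⊥ := by
    intro h
    apply hα1
    refine MulEquiv.ext fun a => ?_
    have : α a / a ∈ D := ⟨a, rfl⟩
    rw [h, Subgroup.mem_bot, div_eq_one] at this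
    exact this
  have hDinv : ∀ y ∈ D, α y ∈ D := by
    rintro _ ⟨a, rfl⟩
    exact ⟨α a, (map_div α (α a) a).symm⟩
  obtain ⟨M, ⟨hMD, hM1, hMinv⟩, hMmin⟩ :=
    (Set.toFinite {L : Subgroup W | L ≤ D ∧ L ≠ ⊥ ∧ ∀ y ∈ L, α y ∈ L}).exists_minimal
      ⟨D, le_rfl, hDne, hDinv⟩
  have hMmin' : ∀ L : Subgroup W, L ≤ M → (∀ y ∈ L, α y ∈ L) → L = ⊥ ∨ L = M := by
    intro L hLM hL
    by_cases h : L = ⊥
    · exact Or.inl h
    · exact Or.inr (le_antisymm hLM (hMmin ⟨hLM.trans hMD, h, hL⟩ hLM))
  have hmapM : M.map α.toMonoidHom = M := Subgroup.eq_of_le_of_card_ge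
    (Subgroup.map_le_iff_le_comap.2 hMinv)
    (le_of_eq (Nat.card_congr (M.equivMapOfInjective α.toMonoidHom α.injective).toEquiv))
  let αM : MulAut M := (M.equivMapOfInjective α.toMonoidHom α.injective).trans (MulEquiv.subgroupCongr hmapM)
  have hαM : ∀ m : M, ((αM m : M) : W) = α m := fun m => rfl
  have hαMpow : ∀ (k : ℕ) (m : M), (((αM ^ k) m : M) : W) = (α ^ k) (m : W) := by
    intro k
    induction k with
    | zero => intro m; rfl
    | succ k ih => intro m; rw [pow_succ', pow_succ', MulAut.mul_apply, MulAut.mul_apply, hαM, ih]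
  have hαMr : αM ^ r = 1 := MulEquiv.ext fun m => Subtype.ext (by rw [hαMpow, hαr]; rfl)
  have hMfix : ∀ m : M, αM m = m → m = 1 := fun m h =>
    Subtype.ext (hDfix _ (hMD m.2) (by rw [← hαM, h]))
  have hMcard : r ∣ Nat.card M - 1 := by
    have h := card_modEq_fixed αM hαMr
    have h1 : Nat.card {m : M // αM m = m} = 1 := by
      rw [Nat.card_eq_one_iff_unique]
      exact ⟨⟨fun a b => Subtype.ext ((hMfix a a.2).trans (hMfix b b.2).symm)⟩, ⟨⟨1, map_one _⟩⟩⟩
    rw [h1] at h
    exact (Nat.modEq_iff_dvd' Nat.card_pos).1 h.symm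
  have : Nontrivial M := M.nontrivial_iff_ne_bot.2 hM1
  have hM2 := Finite.one_lt_card (α := M)
  have hrM : r < Nat.card M := by have := Nat.le_of_dvd (by omega) hMcard; omega
  -- the orthogonal subgroup
  let res : W →* (M →* Kˣ) :=
    { toFun := fun a => ((MonoidHom.flip β) a).comp M.subtype
      map_one' := by rw [map_one]; rfl
      map_mul' := fun a b => by rw [map_mul]; rfl }
  let P : Subgroup W := res.ker
  have hP : ∀ a, a ∈ P ↔ ∀ m ∈ M, β m a = 1 := fun a => by
    rw [MonoidHom.mem_ker]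
    exact ⟨fun h m hm => DFunLike.congr_fun h ⟨m, hm⟩, fun h => MonoidHom.ext fun m => h m m.2⟩
  have hPM : M ⊓ P = ⊥ := by
    rcases hMmin' (M ⊓ P) inf_le_left (fun y hy => by
      refine ⟨hMinv y hy.1, (hP _).2 fun m hm => ?_⟩
      obtain ⟨m', hm', rfl⟩ : m ∈ M.map α.toMonoidHom := by rw [hmapM]; exact hm
      show β (α m') (α y) = 1
      rw [hα]
      exact (hP y).1 hy.2 m' hm') with h | h
    · exact h
    · exfalso
      let g : M →* (W ⧸ P →* Kˣ) :=
        { toFun := fun m => QuotientGroup.lift P (β m) fun a ha => (hP a).1 ha m m.2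
          map_one' := MonoidHom.ext fun x => by
            obtain ⟨x, rfl⟩ := QuotientGroup.mk_surjective x
            show β ((1 : M) : W) x = 1
            rw [OneMemClass.coe_one, map_one]; rfl
          map_mul' := fun a b => MonoidHom.ext fun x => by
            obtain ⟨x, rfl⟩ := QuotientGroup.mk_surjective x
            show β ((a * b : M) : W) x = β a x * β b x
            rw [Subgroup.coe_mul, map_mul]; rfl }
      have hg : Function.Injective g := (injective_iff_map_eq_one g).2 fun m hm =>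
        Subtype.ext (hnd _ fun b => DFunLike.congr_fun hm (b : W ⧸ P))
      have h1 : Nat.card M ≤ P.index := by
        have : Finite (W ⧸ P →* Kˣ) := Finite.of_injective _ DFunLike.coe_injective
        exact (Nat.card_le_card_of_injective g hg).trans card_hom_le
      have h2 : Nat.card M ≤ Nat.card P :=
        Subgroup.card_le_of_le (inf_eq_left.1 h)
      have h3 := Nat.mul_le_mul h1 h2
      rw [mul_comm P.index, P.card_mul_index] at h3
      have h4 : Nat.card M ≤ n := by
        by_contra hlt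
        have := Nat.mul_lt_mul'' (not_le.1 hlt) (not_le.1 hlt)
        rw [← pow_two] at this
        omega
      omega
  -- apply to `M`
  let βM : M →* M →* Kˣ :=
    { toFun := fun m => (β m).comp M.subtype
      map_one' := by rw [OneMemClass.coe_one, map_one]; rfl
      map_mul' := fun a b => by rw [Subgroup.coe_mul, map_mul]; rfl }
  have hndM : ∀ b, (∀ a, βM a b = 1) → b = 1 := by
    intro b hb
    have : (b : W) ∈ M ⊓ P := ⟨b.2, (hP _).2 fun m hm => hb ⟨m, hm⟩⟩
    rw [hPM, Subgroup.mem_bot] at this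
    exact Subtype.ext this
  have hirr : ∀ L : Subgroup M, (∀ a ∈ L, αM a ∈ L) → L = ⊥ ∨ L = ⊤ := by
    intro L hL
    rcases hMmin' (L.map M.subtype) (Subgroup.map_subtype_le L) (by
      rintro _ ⟨a, ha, rfl⟩
      exact ⟨αM a, hL a ha, hαM a⟩) with h | h
    · exact Or.inl ((Subgroup.map_eq_bot_iff_of_injective _ M.subtype_injective).1 h)
    · refine Or.inr (eq_top_iff.2 fun m _ => ?_)
      obtain ⟨a, ha, ham⟩ : (m : W) ∈ L.map M.subtype := h.symm ▸ m.2
      rwa [Subtype.ext ham] at ha
  have hαM1 : αM ≠ 1 := fun h => by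
    obtain ⟨m, hm⟩ := exists_ne (1 : M)
    exact hm (hMfix m (by rw [h]; rfl))
  obtain ⟨i, hi⟩ := even_exponent (fun m : M => Subtype.ext (hs m)) βM hndM αM (fun a b => hα _ _)
    (by omega : 3 ≤ r) hr hαMr hαM1 hirr
  have hle : Nat.card M ≤ Nat.card W := Subgroup.card_le_card_group M
  rw [mul_comm, pow_mul, pow_two] at hi
  have hin : s ^ i ≤ n := by
    by_contra hlt
    have := Nat.mul_lt_mul'' (not_le.1 hlt) (not_le.1 hlt)
    rw [← pow_two] at this
    omega
  have h1 : s ^ i * s ^ i - 1 = (s ^ i + 1) * (s ^ i - 1) := by simpa using Nat.mul_self_sub_mul_self_eq (s ^ i) 1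
  rw [hi, h1] at hMcard
  rcases hr.dvd_mul.1 hMcard with h | h
  · have := Nat.le_of_dvd (by omega) h
    have hn' : n = s ^ i := by omega
    refine ⟨i, by omega, hn', le_antisymm hW ?_⟩
    rw [hn', pow_two, ← hi]
    exact hle
  · exfalso
    have h0 : 1 < s ^ i := by
      by_contra h0
      have : s ^ i * s ^ i ≤ 1 := Nat.mul_le_mul (not_lt.1 h0) (not_lt.1 h0)
      omega
    have := Nat.le_of_dvd (by omega) h
    omega

end Cfsg.Agent.Recog.SemiLin
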