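import Cfsg.Agent.Lib.Recog.SemilinearGroups.Bound
import Cfsg.Agent.Lib.Recog.SemilinearGroups.Pairing
import Cfsg.Agent.Lib.FGB.PGroupBasic
import Mathlib.GroupTheory.Sylow

/-!
# A normal subgroup of class two and an element of prime order above the dimension
-/

set_option autoImplicit false

namespace Cfsg.Agent.Recog.SemiLin

universe u v

variable {G : Type v} [Group G]

/-- An element of prime order fixing a coset and the difference centralises. -/
lemma eq_one_of_commutator_fixed {s r : ℕ} (hs : s.Prime) (hr : r.Prime) (hrs : r ≠ s) {x u d : G}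
    (hx : x ^ r = 1) (hd : x * u * x⁻¹ = d * u) (hxd : x * d = d * x) (hdo : ∃ k, d ^ s ^ k = 1) :
    d = 1 := by
  have h : ∀ j : ℕ, x ^ j * u * (x ^ j)⁻¹ = d ^ j * u := by
    intro j
    induction j with
    | zero => simp
    | succ j ih =>
      calc x ^ (j + 1) * u * (x ^ (j + 1))⁻¹ = x * (x ^ j * u * (x ^ j)⁻¹) * x⁻¹ := by
            rw [pow_succ']; group
        _ = x * (d ^ j * u) * x⁻¹ := by rw [ih]
        _ = d ^ j * (x * u * x⁻¹) := by
            rw [← mul_assoc x, (show Commute x (d ^ j) from (Commute.pow_right hxd j)).eq]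
            group
        _ = d ^ (j + 1) * u := by rw [hd, pow_succ, mul_assoc]
  have h1 := h r
  rw [hx, one_mul, inv_one, mul_one, right_eq_mul] at h1
  obtain ⟨k, hk⟩ := hdo
  have h2 : d ^ Nat.gcd r (s ^ k) = 1 := pow_gcd_eq_one.2 ⟨h1, hk⟩
  rwa [Nat.Coprime.gcd_eq_one (Nat.Coprime.pow_right k ((Nat.coprime_primes hr hs).2 hrs)), pow_one] at h2

/-- The action of the group on the central quotient. -/
def conjQuot {U : Subgroup G} (hU : U.Normal) [((zc U).subgroupOf U).Normal] :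
    G →* MulAut (U ⧸ (zc U).subgroupOf U) :=
  haveI := hU
  { toFun := fun g => QuotientGroup.congr _ _ (MulAut.conjNormal g) (by
      apply le_antisymm
      · rintro _ ⟨u, hu, rfl⟩
        exact (zc_normal hU).conj_mem _ hu g
      · intro u hu
        refine ⟨MulAut.conjNormal g⁻¹ u, (zc_normal hU).conj_mem _ hu g⁻¹, Subtype.ext ?_⟩
        show g * (g⁻¹ * (u : G) * g⁻¹⁻¹) * g⁻¹ = u
        group)
    map_one' := MulEquiv.ext fun w => by
      obtain ⟨w, rfl⟩ := QuotientGroup.mk_surjective w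
      show ((MulAut.conjNormal (1 : G) w : U) : U ⧸ (zc U).subgroupOf U) = w
      rw [map_one]; rfl
    map_mul' := fun g h => MulEquiv.ext fun w => by
      obtain ⟨w, rfl⟩ := QuotientGroup.mk_surjective w
      show ((MulAut.conjNormal (g * h) w : U) : U ⧸ (zc U).subgroupOf U) =
        ((MulAut.conjNormal g (MulAut.conjNormal h w) : U) : U ⧸ (zc U).subgroupOf U)
      rw [map_mul]; rfl }

lemma conjQuot_mk {U : Subgroup G} (hU : U.Normal) [((zc U).subgroupOf U).Normal] (g : G) (u : U) :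
    conjQuot hU g (u : U ⧸ (zc U).subgroupOf U) =
      ((⟨g * u * g⁻¹, hU.conj_mem _ u.2 g⟩ : U) : U ⧸ (zc U).subgroupOf U) := rfl

lemma mk_eq_one_iff {U : Subgroup G} [((zc U).subgroupOf U).Normal] (u : U) :
    (u : U ⧸ (zc U).subgroupOf U) = 1 ↔ (u : G) ∈ zc U := by
  rw [QuotientGroup.eq_one_iff, Subgroup.mem_subgroupOf]

lemma mul_inv_mem_zc_of_fixed {U : Subgroup G} (hU : U.Normal) [((zc U).subgroupOf U).Normal]
    {g : G} (u : U) (h : conjQuot hU g (u : U ⧸ (zc U).subgroupOf U) = u) :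
    g * u * g⁻¹ * (u : G)⁻¹ ∈ zc U := by
  rw [conjQuot_mk] at h
  have h1 : ((⟨g * u * g⁻¹, hU.conj_mem _ u.2 g⟩ * u⁻¹ : U) : U ⧸ (zc U).subgroupOf U) = 1 := by
    rw [QuotientGroup.mk_mul, QuotientGroup.mk_inv, h, mul_inv_cancel]
  exact (mk_eq_one_iff _).1 h1

variable {q : ℕ} [Fact q.Prime] {V : Type u} [AddCommGroup V] [Module (ZMod q) V] [Finite V]
  [Nontrivial V] [Finite G] (ρ : G →* (V ≃ₗ[ZMod q] V))

/-- An element of order `r` above the dimension is faithful on the central quotient up to the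
centraliser. -/
lemma mem_centralizer_of_trivial (ht : IsTrans ρ) (hρ : Function.Injective ρ) {U : Subgroup G}
    (hU : U.Normal) [((zc U).subgroupOf U).Normal] {s : ℕ} [Fact s.Prime] (hUs : IsPGroup s U)
    {r : ℕ} (hr : r.Prime) (hrs : r ≠ s) (hnr : Module.finrank (ZMod q) V < r) {y : G}
    (hy : orderOf y = r) (h : conjQuot hU y = 1) : y ∈ Subgroup.centralizer (U : Set G) := by
  rw [Subgroup.mem_centralizer_iff]
  intro u hu
  have hz := mul_inv_mem_zc_of_fixed (g := y) hU ⟨u, hu⟩ (by rw [h]; rfl)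
  simp only at hz
  have hd : deg ρ (zc U) < r := lt_of_le_of_lt
    (Nat.le_of_dvd Module.finrank_pos (deg_dvd ρ ht (zc_normal hU) (zc_comm U))) hnr
  have hc := Subgroup.mem_centralizer_iff.1
    (mem_centralizer_of_lt ρ ht hρ (zc_normal hU) (zc_comm U) hr hy hd) _ hz
  obtain ⟨k, hk⟩ := hUs ⟨_, (mem_zc.1 hz).1⟩
  have h1 := eq_one_of_commutator_fixed (Fact.out : s.Prime) hr hrs (u := u)
    (d := y * u * y⁻¹ * u⁻¹) (hy ▸ pow_orderOf_eq_one y) (by group) hc.symm
    ⟨k, congrArg Subtype.val hk⟩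
  rw [mul_inv_eq_one, mul_inv_eq_iff_eq_mul] at h1
  exact h1.symm

/-- The structure forced by an element of prime order above the dimension. -/
theorem class_two (ht : IsTrans ρ) (hρ : Function.Injective ρ) {U : Subgroup G} (hU : U.Normal)
    {s : ℕ} [Fact s.Prime] (hUs : IsPGroup s U)
    (hcl : ∀ a ∈ U, ∀ b ∈ U, a * b * a⁻¹ * b⁻¹ ∈ zc U) (hpow : ∀ a ∈ U, a ^ s ∈ zc U)
    {r : ℕ} (hr : r.Prime) (hrs : r ≠ s) (hn : 2 ≤ Module.finrank (ZMod q) V)
    (hnr : Module.finrank (ZMod q) V < r) {x : G} (hx : orderOf x = r)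
    (hxU : x ∉ Subgroup.centralizer (U : Set G)) (hq1 : ¬ r ∣ q - 1) :
    ∃ i : ℕ, r = s ^ i + 1 ∧ Module.finrank (ZMod q) V = s ^ i ∧ ¬ r ^ 2 ∣ Nat.card G := by
  classical
  have hN : ((zc U).subgroupOf U).Normal := (zc_normal hU).subgroupOf U
  letI : CommGroup (U ⧸ (zc U).subgroupOf U) :=
    { (inferInstance : Group (U ⧸ (zc U).subgroupOf U)) with
      mul_comm := fun a b => by
        obtain ⟨a, rfl⟩ := QuotientGroup.mk_surjective a
        obtain ⟨b, rfl⟩ := QuotientGroup.mk_surjective b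
        have h : ((a * b * a⁻¹ * b⁻¹ : U) : U ⧸ (zc U).subgroupOf U) = 1 :=
          (mk_eq_one_iff _).2 (hcl _ a.2 _ b.2)
        rw [QuotientGroup.mk_mul, QuotientGroup.mk_inv, QuotientGroup.mk_mul, QuotientGroup.mk_inv,
          QuotientGroup.mk_mul, mul_inv_eq_one, mul_inv_eq_iff_eq_mul] at h
        exact h }
  letI := (isField ρ ht (zc_normal hU) (zc_comm U)).toField
  let χ : zc U →* (algOf ρ (zc U))ˣ := MonoidHom.toHomUnits
    { toFun := fun a => ⟨opHom ρ a, opHom_mem ρ a.2⟩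
      map_one' := Subtype.ext (map_one (opHom ρ))
      map_mul' := fun a b => Subtype.ext (map_mul (opHom ρ) _ _) }
  have hχ : Function.Injective χ := fun a b e =>
    Subtype.ext (opHom_injective ρ hρ (congrArg Subtype.val (congrArg Units.val e)))
  let cm : U → U → zc U := fun a b => ⟨_, hcl _ a.2 _ b.2⟩
  have hcmL : ∀ a a' b, cm (a * a') b = cm a b * cm a' b := by
    intro a a' b
    apply Subtype.ext
    show (a * a' : G) * b * (a * a' : G)⁻¹ * (b : G)⁻¹ =
      ((a : G) * b * (a : G)⁻¹ * (b : G)⁻¹) * ((a' : G) * b * (a' : G)⁻¹ * (b : G)⁻¹)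
    have h1 := (mem_zc.1 (hcl _ a'.2 _ b.2)).2 _ a.2
    have h2 := zc_comm U _ (hcl _ a.2 _ b.2) _ (hcl _ a'.2 _ b.2)
    calc (a * a' : G) * b * (a * a' : G)⁻¹ * (b : G)⁻¹
        = ((a : G) * ((a' : G) * b * (a' : G)⁻¹ * (b : G)⁻¹)) * b * (a : G)⁻¹ * (b : G)⁻¹ := by group
      _ = ((a' : G) * b * (a' : G)⁻¹ * (b : G)⁻¹) * ((a : G) * b * (a : G)⁻¹ * (b : G)⁻¹) := by
        rw [h1]; group
      _ = _ := h2.symm
  have hcmR : ∀ a b b', cm a (b * b') = cm a b * cm a b' := by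
    intro a b b'
    apply Subtype.ext
    show (a : G) * (b * b' : G) * (a : G)⁻¹ * (b * b' : G)⁻¹ =
      ((a : G) * b * (a : G)⁻¹ * (b : G)⁻¹) * ((a : G) * b' * (a : G)⁻¹ * (b' : G)⁻¹)
    have h1 := (mem_zc.1 (hcl _ a.2 _ b'.2)).2 _ b.2
    calc (a : G) * (b * b' : G) * (a : G)⁻¹ * (b * b' : G)⁻¹
        = (a : G) * b * (a : G)⁻¹ * (((a : G) * b' * (a : G)⁻¹ * (b' : G)⁻¹) * (b : G)⁻¹) := by group
      _ = (a : G) * b * (a : G)⁻¹ * ((b : G)⁻¹ * ((a : G) * b' * (a : G)⁻¹ * (b' : G)⁻¹)) := by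
        congr 1
        have h2 := congrArg (fun t => (b : G)⁻¹ * t * (b : G)⁻¹) h1
        simpa [mul_assoc] using h2
      _ = _ := by group
  have hcm1 : ∀ a b : U, (b : G) ∈ zc U → cm a b = 1 := by
    intro a b hb
    apply Subtype.ext
    show (a : G) * b * (a : G)⁻¹ * (b : G)⁻¹ = 1
    rw [(mem_zc.1 hb).2 _ a.2]; group
  have hcm2 : ∀ a b : U, (a : G) ∈ zc U → cm a b = 1 := by
    intro a b hb
    apply Subtype.ext
    show (a : G) * b * (a : G)⁻¹ * (b : G)⁻¹ = 1
    rw [← (mem_zc.1 hb).2 _ b.2]; group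
  let β₀ : U → (U ⧸ (zc U).subgroupOf U →* (algOf ρ (zc U))ˣ) := fun a =>
    QuotientGroup.lift _ (MonoidHom.mk' (fun b => χ (cm a b))
      (fun b b' => by rw [hcmR, map_mul])) (fun b hb => by
        show χ (cm a b) = 1
        rw [hcm1 a b hb, map_one])
  let β₁ : U →* (U ⧸ (zc U).subgroupOf U →* (algOf ρ (zc U))ˣ) :=
    MonoidHom.mk' β₀ (fun a a' => MonoidHom.ext fun w => by
      obtain ⟨b, rfl⟩ := QuotientGroup.mk_surjective w
      show χ (cm (a * a') b) = χ (cm a b) * χ (cm a' b)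
      rw [hcmL, map_mul])
  let β := QuotientGroup.lift ((zc U).subgroupOf U) β₁ (fun a ha => MonoidHom.ext fun w => by
    obtain ⟨b, rfl⟩ := QuotientGroup.mk_surjective w
    show χ (cm a b) = 1
    rw [hcm2 a b ha, map_one])
  have hd : deg ρ (zc U) < r := lt_of_le_of_lt
    (Nat.le_of_dvd Module.finrank_pos (deg_dvd ρ ht (zc_normal hU) (zc_comm U))) hnr
  have hxz := mem_centralizer_of_lt ρ ht hρ (zc_normal hU) (zc_comm U) hr hx hd
  obtain ⟨hWle, hWext⟩ := bound ρ ht hρ hU hcl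
  obtain ⟨i, hri, hni, hW⟩ := pairing_bound (W := U ⧸ (zc U).subgroupOf U) (s := s)
    (fun w => by
      obtain ⟨a, rfl⟩ := QuotientGroup.mk_surjective w
      rw [← QuotientGroup.mk_pow, mk_eq_one_iff, Subgroup.coe_pow]
      exact hpow _ a.2)
    β
    (fun w hw => by
      obtain ⟨a, rfl⟩ := QuotientGroup.mk_surjective w
      rw [mk_eq_one_iff, mem_zc]
      refine ⟨a.2, fun b hb => ?_⟩
      have h := hχ ((hw ((⟨b, hb⟩ : U) : U ⧸ (zc U).subgroupOf U)).trans (map_one χ).symm)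
      have h1 : (a : G) * b * (a : G)⁻¹ * b⁻¹ = 1 := congrArg Subtype.val h
      rw [mul_inv_eq_one, mul_inv_eq_iff_eq_mul] at h1
      exact h1.symm)
    (conjQuot hU x)
    (fun w w' => by
      obtain ⟨a, rfl⟩ := QuotientGroup.mk_surjective w
      obtain ⟨b, rfl⟩ := QuotientGroup.mk_surjective w'
      rw [conjQuot_mk, conjQuot_mk]
      show χ (cm ⟨x * a * x⁻¹, _⟩ ⟨x * b * x⁻¹, _⟩) = χ (cm a b)
      congr 1
      apply Subtype.ext
      show (x * a * x⁻¹) * (x * b * x⁻¹) * (x * a * x⁻¹)⁻¹ * (x * b * x⁻¹)⁻¹ =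
        (a : G) * b * (a : G)⁻¹ * (b : G)⁻¹
      calc _ = x * ((a : G) * b * (a : G)⁻¹ * (b : G)⁻¹) * x⁻¹ := by group
        _ = _ := by
          rw [← Subgroup.mem_centralizer_iff.1 hxz _ (hcl _ a.2 _ b.2)]
          group)
    hr hrs
    (by rw [← map_pow, ← hx, pow_orderOf_eq_one, map_one])
    (fun h => hxU (mem_centralizer_of_trivial ρ ht hρ hU hUs hr hrs hnr hx h))
    hn hnr hWle
  refine ⟨i, hri, hni, fun hdvd => ?_⟩
  have := Fact.mk hr
  have hC : ¬ r ∣ Nat.card (Subgroup.centralizer (U : Set G)) := fun h =>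
    hq1 (h.trans (hWext (le_of_eq hW.symm)))
  obtain ⟨P, hP⟩ := Sylow.exists_subgroup_card_pow_prime r hdvd
  let _ : MulAction P (U ⧸ (zc U).subgroupOf U) :=
    MulAction.compHom _ ((conjQuot hU).comp P.subtype)
  have hfree : ∀ w : U ⧸ (zc U).subgroupOf U, w ≠ 1 → MulAction.stabilizer P w = ⊥ := by
    intro w hw
    by_contra hst
    have hPr : IsPGroup r (MulAction.stabilizer P w) := (IsPGroup.of_card hP).to_subgroup _
    have : Nontrivial (MulAction.stabilizer P w) := (Subgroup.nontrivial_iff_ne_bot _).2 hst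
    obtain ⟨k, hk0, hk⟩ := (IsPGroup.nontrivial_iff_card hPr).1 this
    obtain ⟨y, hy⟩ := exists_prime_orderOf_dvd_card' (G := MulAction.stabilizer P w) r
      (hk ▸ dvd_pow_self r hk0.ne')
    rw [← Subgroup.orderOf_coe, ← Subgroup.orderOf_coe] at hy
    have hyw : conjQuot hU ((y : P) : G) w = w := y.2
    have hy1 : conjQuot hU ((y : P) : G) ≠ 1 := fun h => hC (by
      have hmem := mem_centralizer_of_trivial ρ ht hρ hU hUs hr hrs hnr hy h
      have := orderOf_dvd_natCard (⟨_, hmem⟩ : Subgroup.centralizer (U : Set G))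
      rwa [Subgroup.orderOf_mk, hy] at this)
    let F : Subgroup (U ⧸ (zc U).subgroupOf U) :=
      MonoidHom.eqLocus (conjQuot hU ((y : P) : G)).toMonoidHom (MonoidHom.id _)
    have hmod := card_modEq_fixed (conjQuot hU ((y : P) : G)) (r := r)
      (by rw [← map_pow, ← hy, pow_orderOf_eq_one, map_one])
    have hFc : Nat.card {m // conjQuot hU ((y : P) : G) m = m} = Nat.card F :=
      Nat.card_congr (Equiv.subtypeEquivRight fun m => Iff.rfl)
    rw [hFc] at hmod
    obtain ⟨j, hj, hFj⟩ := (Nat.dvd_prime_pow (Fact.out : s.Prime)).1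
      (show Nat.card F ∣ s ^ (2 * i) by
        have := Subgroup.card_subgroup_dvd_card F
        rwa [hW, hni, ← pow_mul, mul_comm] at this)
    rw [hW, hni, hFj] at hmod
    have hs2 : s = 2 := by
      rcases (Fact.out : s.Prime).eq_two_or_odd' with h | h
      · exact h
      · exfalso
        have : Odd (s ^ i) := h.pow
        have hev : Even r := hri ▸ this.add_one
        have := (Nat.Prime.even_iff hr).1 hev
        omega
    subst hs2
    have hj2 : j ≠ 2 * i := fun h => by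
      have hFtop : F = ⊤ := Subgroup.eq_top_of_card_eq _ (by rw [hFj, h, hW, hni, ← pow_mul, mul_comm])
      exact hy1 (MulEquiv.ext fun m => (hFtop ▸ Subgroup.mem_top m : m ∈ F))
    have hF1 : 1 < Nat.card F := by
      refine Finite.one_lt_card_iff_nontrivial.2 ⟨⟨1, ⟨w, hyw⟩, fun h => hw ?_⟩⟩
      exact (congrArg Subtype.val h).symm
    have h1 : (2 ^ i) ^ 2 % r = 1 := by
      have hr2 : (2 ^ i) ^ 2 = r * (2 ^ i - 1) + 1 := by
        obtain ⟨t, ht'⟩ : ∃ t, 2 ^ i = t + 1 := ⟨2 ^ i - 1, by have := Nat.two_pow_pos i; omega⟩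
        rw [hri, ht', show t + 1 - 1 = t by omega]; ring
      rw [hr2, Nat.mul_add_mod, Nat.mod_eq_of_lt hr.one_lt]
    unfold Nat.ModEq at hmod
    rw [h1] at hmod
    rcases le_or_gt j i with hji | hji
    · have : 2 ^ j ≤ 2 ^ i := Nat.pow_le_pow_right (by norm_num) hji
      rw [Nat.mod_eq_of_lt (by omega)] at hmod
      omega
    · obtain ⟨t, rfl⟩ : ∃ t, j = i + t := ⟨j - i, by omega⟩
      have ht1 : 2 ^ t + 1 ≤ 2 ^ i := by
        have : 2 ^ t < 2 ^ i := Nat.pow_lt_pow_right (by norm_num) (by omega)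
        omega
      have h3 : 2 ^ (i + t) = r * (2 ^ t - 1) + (r - 2 ^ t) := by
        rw [pow_add]
        obtain ⟨a, ha⟩ : ∃ a, 2 ^ t = a + 1 := ⟨2 ^ t - 1, by have := Nat.two_pow_pos t; omega⟩
        obtain ⟨b, hb⟩ : ∃ b, 2 ^ i = a + 2 + b := ⟨2 ^ i - (a + 2), by omega⟩
        rw [hri, ha, hb, show a + 1 - 1 = a by omega, show a + 2 + b + 1 - (a + 1) = b + 2 by omega]
        ring
      have := Nat.two_pow_pos t
      rw [h3, Nat.mul_add_mod, Nat.mod_eq_of_lt (by omega)] at hmod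
      omega
  obtain ⟨w, hw⟩ : ∃ w : U ⧸ (zc U).subgroupOf U, w ≠ 1 := by
    have : Nontrivial (U ⧸ (zc U).subgroupOf U) := Finite.one_lt_card_iff_nontrivial.1 (by
      rw [hW]; exact Nat.one_lt_pow (by norm_num) (by omega))
    exact exists_ne 1
  have hcard : Nat.card (MulAction.orbit P w) = r ^ 2 := by
    rw [Nat.card_congr (MulAction.orbitEquivQuotientStabilizer P w), ← Subgroup.index,
      hfree w hw, Subgroup.index_bot, hP]
  have hle : Nat.card (MulAction.orbit P w) ≤ Nat.card (U ⧸ (zc U).subgroupOf U) :=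
    Finite.card_subtype_le _
  rw [hcard, hW] at hle
  have := Nat.pow_lt_pow_left hnr (n := 2) (by norm_num)
  omega

end Cfsg.Agent.Recog.SemiLin
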