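import Mathlib.FieldTheory.Finite.GaloisField
import Mathlib.FieldTheory.Galois.Basic
import Mathlib.GroupTheory.PGroup

/-!
# Linear groups transitive on the non-zero vectors: the field of an abelian normal subgroup
-/

set_option autoImplicit false

namespace Cfsg.Agent.Recog.SemiLin

universe u v

variable {q : ℕ} [Fact q.Prime] {V : Type u} [AddCommGroup V] [Module (ZMod q) V]
  {G : Type v} [Group G] (ρ : G →* (V ≃ₗ[ZMod q] V))

/-- The action by endomorphisms. -/
def opHom : G →* Module.End (ZMod q) V where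
  toFun g := (ρ g).toLinearMap
  map_one' := by rw [map_one]; rfl
  map_mul' g h := by rw [map_mul]; rfl

@[simp] lemma opHom_apply (g : G) (v : V) : opHom ρ g v = ρ g v := rfl

lemma opHom_injective (hρ : Function.Injective ρ) : Function.Injective (opHom ρ) := fun g h e =>
  hρ (LinearEquiv.toLinearMap_injective e)

/-- Transitivity on the non-zero vectors. -/
def IsTrans : Prop := ∀ x y : V, x ≠ 0 → y ≠ 0 → ∃ g : G, ρ g x = y

/-- The algebra generated by a subgroup. -/
def algOf (A : Subgroup G) : Subalgebra (ZMod q) (Module.End (ZMod q) V) :=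
  Algebra.adjoin (ZMod q) (opHom ρ '' (A : Set G))

lemma opHom_mem {A : Subgroup G} {a : G} (ha : a ∈ A) : opHom ρ a ∈ algOf ρ A :=
  Algebra.subset_adjoin ⟨a, ha, rfl⟩

lemma conj_mem {A : Subgroup G} (hA : A.Normal) (g : G) {f : Module.End (ZMod q) V}
    (hf : f ∈ algOf ρ A) : opHom ρ g * f * opHom ρ g⁻¹ ∈ algOf ρ A := by
  induction hf using Algebra.adjoin_induction with
  | mem x hx =>
    obtain ⟨a, ha, rfl⟩ := hx
    rw [← map_mul, ← map_mul]
    exact opHom_mem ρ (hA.conj_mem a ha g)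
  | algebraMap c =>
    rw [← Algebra.commutes, mul_assoc, ← map_mul, mul_inv_cancel, map_one, mul_one]
    exact Subalgebra.algebraMap_mem _ c
  | add x y _ _ hx hy =>
    rw [mul_add, add_mul]; exact add_mem hx hy
  | mul x y _ _ hx hy =>
    have h : opHom ρ g⁻¹ * opHom ρ g = 1 := by rw [← map_mul, inv_mul_cancel, map_one]
    have : opHom ρ g * (x * y) * opHom ρ g⁻¹ =
        (opHom ρ g * x * opHom ρ g⁻¹) * (opHom ρ g * y * opHom ρ g⁻¹) := by
      simp only [mul_assoc]
      rw [← mul_assoc (opHom ρ g⁻¹) (opHom ρ g), h, one_mul]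
    rw [this]; exact mul_mem hx hy

lemma commute_of_mem {A : Subgroup G} {f : Module.End (ZMod q) V} (h : G)
    (hh : ∀ a ∈ A, a * h = h * a) (hf : f ∈ algOf ρ A) : Commute f (opHom ρ h) := by
  induction hf using Algebra.adjoin_induction with
  | mem x hx =>
    obtain ⟨a, ha, rfl⟩ := hx
    rw [Commute, SemiconjBy, ← map_mul, ← map_mul, hh a ha]
  | algebraMap c => exact Algebra.commutes c _
  | add x y _ _ hx hy => exact hx.add_left hy
  | mul x y _ _ hx hy => exact hx.mul_left hy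

lemma mul_comm_of_mem {A : Subgroup G} (hab : ∀ a ∈ A, ∀ b ∈ A, a * b = b * a)
    {f f' : Module.End (ZMod q) V} (hf : f ∈ algOf ρ A) (hf' : f' ∈ algOf ρ A) :
    f * f' = f' * f := by
  induction hf' using Algebra.adjoin_induction with
  | mem x hx =>
    obtain ⟨a, ha, rfl⟩ := hx
    exact commute_of_mem ρ a (fun b hb => hab b hb a ha) hf
  | algebraMap c => exact (Algebra.commutes c f).symm
  | add x y _ _ hx hy => rw [mul_add, add_mul, hx, hy]
  | mul x y _ _ hx hy => rw [← mul_assoc, hx, mul_assoc, hy, mul_assoc]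

variable [Finite V]

instance : Finite (Module.End (ZMod q) V) := Finite.of_injective _ DFunLike.coe_injective

/-- Non-zero elements of the algebra of an abelian normal subgroup are injective. -/
lemma eq_zero_of_apply_eq_zero (ht : IsTrans ρ) {A : Subgroup G} (hA : A.Normal)
    (hab : ∀ a ∈ A, ∀ b ∈ A, a * b = b * a) {f : Module.End (ZMod q) V} (hf : f ∈ algOf ρ A)
    {x : V} (hx : x ≠ 0) (hfx : f x = 0) : f = 0 := by
  let orb : V → Set V := fun y => (fun a => a y) '' (algOf ρ A : Set (Module.End (ZMod q) V))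
  have hself : ∀ y, y ∈ orb y := fun y => ⟨1, one_mem _, rfl⟩
  have hsmap : ∀ (g : G) (y : V), orb (ρ g y) = (fun z => ρ g z) '' orb y := by
    intro g y
    apply Set.Subset.antisymm
    · rintro _ ⟨a, ha, rfl⟩
      refine ⟨(opHom ρ g⁻¹ * a * opHom ρ g⁻¹⁻¹) y, ⟨_, conj_mem ρ hA g⁻¹ ha, rfl⟩, ?_⟩
      simp only [Module.End.mul_apply, opHom_apply, inv_inv]
      rw [← LinearEquiv.mul_apply, ← map_mul, mul_inv_cancel, map_one]
      rfl
    · rintro _ ⟨_, ⟨a, ha, rfl⟩, rfl⟩
      refine ⟨opHom ρ g * a * opHom ρ g⁻¹, conj_mem ρ hA g ha, ?_⟩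
      simp only [Module.End.mul_apply, opHom_apply]
      rw [← LinearEquiv.mul_apply (ρ g⁻¹), ← map_mul, inv_mul_cancel, map_one]
      rfl
  have hmono : ∀ y z, z ∈ orb y → orb z ⊆ orb y := by
    rintro y _ ⟨a, ha, rfl⟩ _ ⟨b, hb, rfl⟩
    exact ⟨b * a, mul_mem hb ha, rfl⟩
  have heq : ∀ y z, y ≠ 0 → z ≠ 0 → z ∈ orb y → orb z = orb y := by
    intro y z hy hz hzy
    obtain ⟨g, hg⟩ := ht y z hy hz
    refine Set.eq_of_subset_of_ncard_le (hmono y z hzy) ?_
    rw [← hg, hsmap, Set.ncard_image_of_injective _ (ρ g).injective]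
  by_contra hf0
  obtain ⟨u, hu⟩ : ∃ u, f u ≠ 0 := by
    by_contra h
    push Not at h
    exact hf0 (LinearMap.ext h)
  have hu0 : u ≠ 0 := fun h => hu (by rw [h, map_zero])
  have hnot : u ∉ orb x := by
    rintro ⟨b, hb, rfl⟩
    apply hu
    show (f * b) x = 0
    rw [mul_comm_of_mem ρ hab hf hb, Module.End.mul_apply, hfx, map_zero]
  have h1 : f u ∈ orb u := ⟨f, hf, rfl⟩
  have hw : u + x ≠ 0 := fun h => hu (by
    rw [eq_neg_of_add_eq_zero_left h, map_neg, hfx, neg_zero])
  have h2 : f u ∈ orb (u + x) := ⟨f, hf, show f (u + x) = f u by rw [map_add, hfx, add_zero]⟩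
  have h3 : u + x ∈ orb u := by
    rw [← heq u (f u) hu0 hu h1, heq (u + x) (f u) hw hu h2]
    exact hself _
  have h4 : x ∈ orb u := by
    obtain ⟨a, ha, hau⟩ := h3
    refine ⟨a - 1, sub_mem ha (one_mem _), ?_⟩
    simp only at hau
    simp [LinearMap.sub_apply, hau]
  exact hnot (heq u x hu0 hx h4 ▸ hself u)

variable [Nontrivial V]

lemma isField (ht : IsTrans ρ) {A : Subgroup G} (hA : A.Normal)
    (hab : ∀ a ∈ A, ∀ b ∈ A, a * b = b * a) : IsField (algOf ρ A) := by
  refine ⟨exists_pair_ne _, fun a b => Subtype.ext (mul_comm_of_mem ρ hab a.2 b.2), fun {a} ha => ?_⟩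
  have hinj : Function.Injective fun b : algOf ρ A => a * b := by
    intro b c hbc
    by_contra hne
    obtain ⟨x, hx⟩ : ∃ x, ((b - c : algOf ρ A) : Module.End (ZMod q) V) x ≠ 0 := by
      by_contra h
      push Not at h
      exact hne (sub_eq_zero.1 (Subtype.ext (LinearMap.ext h)))
    refine ha (Subtype.ext (eq_zero_of_apply_eq_zero ρ ht hA hab a.2 hx ?_))
    have h1 : a * (b - c) = 0 := by rw [mul_sub, sub_eq_zero]; exact hbc
    exact congrArg (fun f : algOf ρ A => (f : Module.End (ZMod q) V) x) h1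
  obtain ⟨b, hb⟩ := (Finite.injective_iff_surjective.1 hinj) 1
  exact ⟨b, hb⟩

/-- The degree of the field. -/
noncomputable def deg (A : Subgroup G) : ℕ := Module.finrank (ZMod q) (algOf ρ A)

lemma card_algOf (A : Subgroup G) : Nat.card (algOf ρ A) = q ^ deg ρ A := by
  rw [Module.natCard_eq_pow_finrank (K := ZMod q), Nat.card_zmod]
  rfl

lemma deg_pos (A : Subgroup G) : 0 < deg ρ A := Module.finrank_pos

lemma deg_dvd (ht : IsTrans ρ) {A : Subgroup G} (hA : A.Normal)
    (hab : ∀ a ∈ A, ∀ b ∈ A, a * b = b * a) : deg ρ A ∣ Module.finrank (ZMod q) V := by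
  letI := (isField ρ ht hA hab).toField
  exact ⟨_, (Module.finrank_mul_finrank (ZMod q) (algOf ρ A) V).symm⟩

lemma card_dvd (ht : IsTrans ρ) (hρ : Function.Injective ρ) {A : Subgroup G} (hA : A.Normal)
    (hab : ∀ a ∈ A, ∀ b ∈ A, a * b = b * a) : Nat.card A ∣ q ^ deg ρ A - 1 := by
  letI := (isField ρ ht hA hab).toField
  let f : A →* algOf ρ A :=
    { toFun := fun a => ⟨opHom ρ a, opHom_mem ρ a.2⟩
      map_one' := Subtype.ext (map_one (opHom ρ))
      map_mul' := fun a b => Subtype.ext (map_mul (opHom ρ) _ _) }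
  have h := Subgroup.card_dvd_of_injective f.toHomUnits (fun a b e => by
    have h1 : f a = f b := congrArg Units.val e
    exact Subtype.ext (opHom_injective ρ hρ (congrArg Subtype.val h1)))
  rwa [Nat.card_units, card_algOf] at h

/-- Conjugation on the algebra. -/
def conjAlg {A : Subgroup G} (hA : A.Normal) : G →* (algOf ρ A ≃ₐ[ZMod q] algOf ρ A) where
  toFun g :=
    { toFun := fun f => ⟨opHom ρ g * f * opHom ρ g⁻¹, conj_mem ρ hA g f.2⟩
      invFun := fun f => ⟨opHom ρ g⁻¹ * f * opHom ρ g⁻¹⁻¹, conj_mem ρ hA g⁻¹ f.2⟩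
      left_inv := fun f => Subtype.ext (by
        simp only [inv_inv, ← mul_assoc, ← map_mul, inv_mul_cancel, map_one, one_mul]
        rw [mul_assoc, ← map_mul, inv_mul_cancel, map_one, mul_one])
      right_inv := fun f => Subtype.ext (by
        simp only [inv_inv, ← mul_assoc, ← map_mul, mul_inv_cancel, map_one, one_mul]
        rw [mul_assoc, ← map_mul, mul_inv_cancel, map_one, mul_one])
      map_mul' := fun f f' => Subtype.ext (by
        have h : opHom ρ g⁻¹ * opHom ρ g = 1 := by rw [← map_mul, inv_mul_cancel, map_one]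
        simp only [MulMemClass.coe_mul, mul_assoc]
        rw [← mul_assoc (opHom ρ g⁻¹) (opHom ρ g), h, one_mul])
      map_add' := fun f f' => Subtype.ext (by simp only [AddMemClass.coe_add, mul_add, add_mul])
      commutes' := fun c => Subtype.ext (by
        show opHom ρ g * algebraMap (ZMod q) (Module.End (ZMod q) V) c * opHom ρ g⁻¹ = _
        rw [← Algebra.commutes, mul_assoc, ← map_mul, mul_inv_cancel, map_one, mul_one]
        rfl) }
  map_one' := AlgEquiv.ext fun f => Subtype.ext (by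
    show opHom ρ 1 * f * opHom ρ 1⁻¹ = f
    rw [inv_one, map_one, one_mul, mul_one])
  map_mul' g h := AlgEquiv.ext fun f => Subtype.ext (by
    show opHom ρ (g * h) * f * opHom ρ (g * h)⁻¹ = opHom ρ g * (opHom ρ h * f * opHom ρ h⁻¹) * opHom ρ g⁻¹
    simp only [mul_inv_rev, map_mul, mul_assoc])

lemma conjAlg_apply {A : Subgroup G} (hA : A.Normal) (g : G) (f : algOf ρ A) :
    (conjAlg ρ hA g f : Module.End (ZMod q) V) = opHom ρ g * f * opHom ρ g⁻¹ := rfl

lemma mem_centralizer_of_conjAlg (hρ : Function.Injective ρ) {A : Subgroup G} (hA : A.Normal)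
    {g : G} (hg : conjAlg ρ hA g = 1) : g ∈ Subgroup.centralizer (A : Set G) := by
  rw [Subgroup.mem_centralizer_iff]
  intro a ha
  apply opHom_injective ρ hρ
  have h : opHom ρ g * opHom ρ a * opHom ρ g⁻¹ = opHom ρ a :=
    congrArg (fun e : algOf ρ A ≃ₐ[ZMod q] algOf ρ A =>
      (e ⟨opHom ρ a, opHom_mem ρ ha⟩ : Module.End (ZMod q) V)) hg
  rw [← map_mul, ← map_mul] at h
  rw [mul_inv_eq_iff_eq_mul.1 (opHom_injective ρ hρ h)]

lemma card_aut (ht : IsTrans ρ) {A : Subgroup G} (hA : A.Normal)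
    (hab : ∀ a ∈ A, ∀ b ∈ A, a * b = b * a) :
    Nat.card (algOf ρ A ≃ₐ[ZMod q] algOf ρ A) = deg ρ A := by
  letI := (isField ρ ht hA hab).toField
  exact IsGalois.card_aut_eq_finrank (ZMod q) (algOf ρ A)

lemma index_centralizer_dvd (ht : IsTrans ρ) (hρ : Function.Injective ρ) {A : Subgroup G}
    (hA : A.Normal) (hab : ∀ a ∈ A, ∀ b ∈ A, a * b = b * a) :
    (Subgroup.centralizer (A : Set G)).index ∣ deg ρ A := by
  refine (Subgroup.index_dvd_of_le (K := (Subgroup.centralizer (A : Set G))) (H := (conjAlg ρ hA).ker)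
    fun g hg => mem_centralizer_of_conjAlg ρ hρ hA hg).trans ?_
  rw [Subgroup.index_ker, ← card_aut ρ ht hA hab]
  exact Subgroup.card_subgroup_dvd_card _

/-- Elements of prime order above the degree centralise. -/
lemma mem_centralizer_of_lt (ht : IsTrans ρ) (hρ : Function.Injective ρ) {A : Subgroup G}
    (hA : A.Normal) (hab : ∀ a ∈ A, ∀ b ∈ A, a * b = b * a) {x : G} {r : ℕ} (hr : r.Prime)
    (hx : orderOf x = r) (hd : deg ρ A < r) : x ∈ Subgroup.centralizer (A : Set G) := by
  refine mem_centralizer_of_conjAlg ρ hρ hA ?_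
  have h1 : orderOf (conjAlg ρ hA x) ∣ r := hx ▸ orderOf_map_dvd _ x
  rcases (Nat.dvd_prime hr).1 h1 with h | h
  · exact orderOf_eq_one_iff.1 h
  · have h2 := orderOf_dvd_natCard (conjAlg ρ hA x)
    rw [h, card_aut ρ ht hA hab] at h2
    exact absurd (Nat.le_of_dvd (deg_pos ρ A) h2) (by omega)

/-- Full degree gives semilinear coordinates. -/
lemma semilinear (ht : IsTrans ρ) {A : Subgroup G} (hA : A.Normal)
    (hab : ∀ a ∈ A, ∀ b ∈ A, a * b = b * a) (hd : deg ρ A = Module.finrank (ZMod q) V) :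
    ∃ (F : Type) (_ : Field F) (_ : Fintype F) (e : V ≃+ F),
      ∀ g : G, ∃ (a : F) (σ : F ≃+* F), ∀ v : V, e (ρ g v) = a * σ (e v) := by
  letI := (isField ρ ht hA hab).toField
  obtain ⟨x, hx⟩ := exists_ne (0 : V)
  let ev : algOf ρ A →+ V :=
    { toFun := fun a => (a : Module.End (ZMod q) V) x
      map_zero' := rfl
      map_add' := fun a b => rfl }
  have hinj : Function.Injective ev := by
    intro a b h
    refine sub_eq_zero.1 (Subtype.ext (eq_zero_of_apply_eq_zero ρ ht hA hab (a - b).2 hx ?_))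
    show (a : Module.End (ZMod q) V) x - (b : Module.End (ZMod q) V) x = 0
    rw [sub_eq_zero]; exact h
  have hbij : Function.Bijective ev := by
    rw [Nat.bijective_iff_injective_and_card]
    exact ⟨hinj, by rw [card_algOf, hd, Module.natCard_eq_pow_finrank (K := ZMod q), Nat.card_zmod]⟩
  let _ : Fintype (GaloisField q (deg ρ A)) := Fintype.ofFinite _
  let _ : Fintype (algOf ρ A) := Fintype.ofFinite _
  let ε : algOf ρ A ≃+* GaloisField q (deg ρ A) := FiniteField.ringEquivOfCardEq (by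
    rw [← Nat.card_eq_fintype_card, ← Nat.card_eq_fintype_card, card_algOf,
      GaloisField.card q _ (deg_pos ρ A).ne'])
  let E : algOf ρ A ≃+ V := AddEquiv.ofBijective ev hbij
  refine ⟨GaloisField q (deg ρ A), inferInstance, inferInstance, E.symm.trans ε.toAddEquiv,
    fun g => ?_⟩
  refine ⟨ε (E.symm (ρ g x)), (ε.symm.trans (conjAlg ρ hA g).toRingEquiv).trans ε, fun v => ?_⟩
  obtain ⟨a, rfl⟩ := E.surjective v
  simp only [AddEquiv.trans_apply, AddEquiv.symm_apply_apply, RingEquiv.trans_apply,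
    RingEquiv.toAddEquiv_eq_coe, RingEquiv.coe_toAddEquiv, RingEquiv.symm_apply_apply]
  rw [← map_mul]
  congr 1
  apply E.injective
  rw [AddEquiv.apply_symm_apply]
  show ρ g ((a : Module.End (ZMod q) V) x) =
    ((E.symm (ρ g x) * conjAlg ρ hA g a : algOf ρ A) : Module.End (ZMod q) V) x
  rw [show E.symm (ρ g x) * conjAlg ρ hA g a = conjAlg ρ hA g a * E.symm (ρ g x) from
    Subtype.ext (mul_comm_of_mem ρ hab (E.symm (ρ g x)).2 (conjAlg ρ hA g a).2)]
  rw [MulMemClass.coe_mul, Module.End.mul_apply, conjAlg_apply]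
  have h1 : ((E.symm (ρ g x) : algOf ρ A) : Module.End (ZMod q) V) x = ρ g x :=
    E.apply_symm_apply (ρ g x)
  rw [h1]
  simp only [Module.End.mul_apply, opHom_apply]
  rw [← LinearEquiv.mul_apply (ρ g⁻¹), ← map_mul, inv_mul_cancel, map_one]
  rfl

/-- `|V| - 1` divides the group order. -/
lemma card_sub_one_dvd [Finite G] (ht : IsTrans ρ) :
    q ^ Module.finrank (ZMod q) V - 1 ∣ Nat.card G := by
  classical
  obtain ⟨x, hx⟩ := exists_ne (0 : V)
  let _ : MulAction G V := MulAction.compHom V ρ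
  have horb : MulAction.orbit G x = {y | y ≠ 0} := by
    ext y
    constructor
    · rintro ⟨g, rfl⟩ h
      exact hx ((ρ g).map_eq_zero_iff.1 h)
    · intro hy
      obtain ⟨g, hg⟩ := ht x y hx hy
      exact ⟨g, hg⟩
  have hcard : Nat.card (MulAction.orbit G x) = q ^ Module.finrank (ZMod q) V - 1 := by
    rw [horb, Nat.card_coe_set_eq, show {y : V | y ≠ 0} = ({0} : Set V)ᶜ from rfl,
      Set.ncard_compl, Set.ncard_singleton, Module.natCard_eq_pow_finrank (K := ZMod q), Nat.card_zmod]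
  rw [← hcard, Nat.card_congr (MulAction.orbitEquivQuotientStabilizer G x)]
  exact Subgroup.index_dvd_card _

/-- A normal `q`-subgroup is trivial. -/
lemma eq_bot_of_isPGroup [Finite G] (ht : IsTrans ρ) (hρ : Function.Injective ρ) {N : Subgroup G}
    (hN : N.Normal) (hq : IsPGroup q N) : N = ⊥ := by
  let _ : MulAction N V := MulAction.compHom V (ρ.comp N.subtype)
  have hdvd : q ∣ Nat.card V := by
    rw [Module.natCard_eq_pow_finrank (K := ZMod q), Nat.card_zmod]
    exact dvd_pow_self q Module.finrank_pos.ne'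
  obtain ⟨x, hx, hx0⟩ := hq.exists_fixed_point_of_prime_dvd_card_of_fixed_point V hdvd
    (a := (0 : V)) (fun n => map_zero (ρ (n : G)))
  rw [Subgroup.eq_bot_iff_forall]
  intro n hn
  apply hρ
  rw [map_one]
  refine LinearEquiv.ext fun y => ?_
  by_cases hy : y = 0
  · rw [hy, map_zero, map_zero]
  obtain ⟨g, rfl⟩ := ht x y (Ne.symm hx0) hy
  have h1 : ρ (g⁻¹ * n * g⁻¹⁻¹) x = x := hx ⟨_, hN.conj_mem n hn g⁻¹⟩
  rw [inv_inv] at h1
  show ρ n (ρ g x) = ρ g x
  conv_rhs => rw [← h1]
  rw [← LinearEquiv.mul_apply, ← LinearEquiv.mul_apply, ← map_mul, ← map_mul, ← mul_assoc,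
    ← mul_assoc, mul_inv_cancel, one_mul]

end Cfsg.Agent.Recog.SemiLin
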