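import Cfsg.Agent.Lib.Recog.SemilinearGroups.ClassTwo
import Cfsg.Agent.Lib.Recog.Zsigmondy
import Cfsg.Agent.Lib.Basics.Cores
import Mathlib.LinearAlgebra.Matrix.GeneralLinearGroup.Card
import Mathlib.GroupTheory.SpecificGroups.Cyclic

/-!
# Solvable linear groups transitive on the non-zero vectors

Huppert's theorem.
-/

set_option autoImplicit false

namespace Cfsg.Agent.Recog.SemiLin

universe u v

section Group

variable {G : Type v} [Group G] [Finite G]

/-- A normal `s`-subgroup all of whose smaller normal subgroups are central has class two with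
elementary abelian central quotient. -/
lemma class_two_of_minimal {s : ℕ} [Fact s.Prime] {U : Subgroup G} (hU : U.Normal)
    (hUs : IsPGroup s U) (hne : U ≠ ⊥)
    (hmin : ∀ M : Subgroup G, M.Normal → M < U → M ≤ zc U) :
    (∀ a ∈ U, ∀ b ∈ U, a * b * a⁻¹ * b⁻¹ ∈ zc U) ∧ (∀ a ∈ U, a ^ s ∈ zc U) := by
  have := hU
  have : Nontrivial U := U.nontrivial_iff_ne_bot.2 hne
  have hlt : (frattini U).map U.subtype < U := by
    refine lt_of_le_of_ne (Subgroup.map_subtype_le _) fun h => ?_
    obtain ⟨M, hM, hle⟩ := (eq_top_or_exists_le_coatom (⊥ : Subgroup U)).resolve_left bot_ne_top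
    refine hM.1 (eq_top_iff.2 fun u _ => ?_)
    obtain ⟨w, hw, hwu⟩ : (u : G) ∈ (frattini U).map U.subtype := h.symm ▸ u.2
    exact (Subtype.ext hwu : w = u) ▸ frattini_le_coatom hM hw
  have hle := hmin _ inferInstance hlt
  exact ⟨fun a ha b hb => hle ⟨_, FGB.commutatorElement_mem_frattini hUs ⟨a, ha⟩ ⟨b, hb⟩, rfl⟩,
    fun a ha => hle ⟨_, FGB.pow_mem_frattini hUs ⟨a, ha⟩, rfl⟩⟩

/-- A minimal normal subgroup not centralised by an element of prime order. -/
lemma exists_class_two {s r : ℕ} [Fact s.Prime] (hr : r.Prime) (hrs : r ≠ s) {x : G}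
    (hx : orderOf x = r) {N : Subgroup G} (hN : N.Normal) (hNs : IsPGroup s N)
    (hxN : x ∉ Subgroup.centralizer (N : Set G)) :
    ∃ U : Subgroup G, U.Normal ∧ IsPGroup s U ∧ x ∉ Subgroup.centralizer (U : Set G) ∧
      (∀ a ∈ U, ∀ b ∈ U, a * b * a⁻¹ * b⁻¹ ∈ zc U) ∧ (∀ a ∈ U, a ^ s ∈ zc U) := by
  obtain ⟨U, ⟨hU, hUN, hxU⟩, hmin⟩ :=
    (Set.toFinite {M : Subgroup G | M.Normal ∧ M ≤ N ∧ x ∉ Subgroup.centralizer (M : Set G)}).exists_minimal
      ⟨N, hN, le_rfl, hxN⟩
  have := hU
  have hUs : IsPGroup s U := hNs.to_le hUN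
  refine ⟨U, hU, hUs, hxU, class_two_of_minimal hU hUs ?_ fun M hM hMU => ?_⟩
  · rintro rfl
    exact hxU (Subgroup.mem_centralizer_iff.2 fun a ha => by simp [Subgroup.mem_bot.1 ha])
  have := hM
  have hfix : ∀ L : Subgroup G, L.Normal → L ≤ U → L ≠ U → ∀ m ∈ L, m * x = x * m := by
    intro L hL hLU hne
    by_contra h
    exact hne (le_antisymm hLU (hmin ⟨hL, hLU.trans hUN,
      fun hc => h (Subgroup.mem_centralizer_iff.1 hc)⟩ hLU))
  have hxM := hfix M hM hMU.le hMU.ne
  have hCU : U ≤ Subgroup.centralizer (M : Set G) := by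
    by_contra hC
    have hCn : (U ⊓ Subgroup.centralizer (M : Set G)).Normal := inferInstance
    have hxC := hfix _ hCn inf_le_left fun h => hC (inf_eq_left.1 h)
    apply hxU
    rw [Subgroup.mem_centralizer_iff]
    intro u hu
    have hd : x * u * x⁻¹ * u⁻¹ ∈ U ⊓ Subgroup.centralizer (M : Set G) := by
      refine Subgroup.mem_inf.2 ⟨mul_mem (hU.conj_mem u hu x) (inv_mem hu), Subgroup.mem_centralizer_iff.2 fun m hm => ?_⟩
      have hm' : u⁻¹ * m * u⁻¹⁻¹ ∈ M := hM.conj_mem m hm u⁻¹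
      have h2 : x * (u⁻¹ * m * u) * x⁻¹ = u⁻¹ * m * u := by
        rw [inv_inv] at hm'
        rw [← hxM _ hm']; group
      have h3 : x * m * x⁻¹ = m := by rw [← hxM m hm]; group
      -- `x u x⁻¹` and `u` act alike
      have h4 : (x * u * x⁻¹) * (u⁻¹ * m * u) * (x * u * x⁻¹)⁻¹ = m := by
        calc (x * u * x⁻¹) * (u⁻¹ * m * u) * (x * u * x⁻¹)⁻¹
            = x * u * (x⁻¹ * (u⁻¹ * m * u) * x) * u⁻¹ * x⁻¹ := by group
          _ = x * u * (u⁻¹ * m * u) * u⁻¹ * x⁻¹ := by
            congr 2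
            calc _ = x * u * (x⁻¹ * (x * (u⁻¹ * m * u) * x⁻¹) * x) := by rw [h2]
              _ = _ := by group
          _ = x * m * x⁻¹ := by group
          _ = m := h3
      calc m * (x * u * x⁻¹ * u⁻¹)
          = ((x * u * x⁻¹) * (u⁻¹ * m * u) * (x * u * x⁻¹)⁻¹) * (x * u * x⁻¹ * u⁻¹) := by rw [h4]
        _ = x * u * x⁻¹ * u⁻¹ * m := by group
    obtain ⟨k, hk⟩ := hUs ⟨_, hd.1⟩
    have h1 := eq_one_of_commutator_fixed (Fact.out : s.Prime) hr hrs (u := u)
      (hx ▸ pow_orderOf_eq_one x) (by group : x * u * x⁻¹ = x * u * x⁻¹ * u⁻¹ * u) (hxC _ hd).symm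
      ⟨k, congrArg Subtype.val hk⟩
    rw [mul_inv_eq_one, mul_inv_eq_iff_eq_mul] at h1
    exact h1.symm
  exact fun m hm => mem_zc.2 ⟨hMU.le hm, fun u hu =>
    (Subgroup.mem_centralizer_iff.1 (hCU hu) m hm).symm⟩

lemma fitting_comm (h : ∀ s : ℕ, s.Prime → ∀ a ∈ Cfsg.pCore s G, ∀ b ∈ Cfsg.pCore s G, a * b = b * a) :
    ∀ a ∈ Cfsg.fittingSubgroup G, ∀ b ∈ Cfsg.fittingSubgroup G, a * b = b * a := by
  suffices Cfsg.fittingSubgroup G ≤ Subgroup.centralizer (Cfsg.fittingSubgroup G : Set G) from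
    fun a ha b hb => (Subgroup.mem_centralizer_iff.1 (this ha) b hb).symm
  conv_lhs => rw [Basics.fittingSubgroup_eq_iSup_pCore]
  refine iSup_le fun p => ?_
  rw [Subgroup.le_centralizer_iff]
  conv_lhs => rw [Basics.fittingSubgroup_eq_iSup_pCore]
  refine iSup_le fun p' => ?_
  intro a ha
  rw [Subgroup.mem_centralizer_iff]
  intro b hb
  by_cases hpp : p = p'
  · subst hpp; exact h _ p.2 b hb a ha
  · have := Fact.mk p.2
    have := Fact.mk p'.2
    exact (Basics.commute_pCore (fun e => hpp (Subtype.ext e)) hb ha).eq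

/-- An element centralising every `p`-core of a solvable group lies in the centre of the Fitting
subgroup. -/
lemma mem_zc_fitting [Group.IsSolvable G] {x : G}
    (h : ∀ s : ℕ, s.Prime → x ∈ Subgroup.centralizer (Cfsg.pCore s G : Set G)) :
    x ∈ zc (Cfsg.fittingSubgroup G) := by
  have h1 : x ∈ Subgroup.centralizer (Cfsg.fittingSubgroup G : Set G) := by
    rw [← Subgroup.zpowers_le, Subgroup.le_centralizer_iff, Basics.fittingSubgroup_eq_iSup_pCore]
    refine iSup_le fun p => ?_
    rw [Subgroup.le_centralizer_iff, Subgroup.zpowers_le]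
    exact h p p.2
  exact ⟨Basics.centralizer_fittingSubgroup_le h1, h1⟩

end Group

variable {q : ℕ} [Fact q.Prime] {V : Type u} [AddCommGroup V] [Module (ZMod q) V] [Finite V]
  [Nontrivial V] {G : Type v} [Group G] [Finite G] (ρ : G →* (V ≃ₗ[ZMod q] V))

/-- No abelian normal subgroup generates a field of full degree. -/
def NoFullField : Prop := ∀ A : Subgroup G, A.Normal → (∀ a ∈ A, ∀ b ∈ A, a * b = b * a) →
    deg ρ A ≠ Module.finrank (ZMod q) V

lemma exists_nonabelian_pCore [Group.IsSolvable G] (ht : IsTrans ρ) (hρ : Function.Injective ρ)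
    (hns : NoFullField ρ) :
    ∃ s : ℕ, s.Prime ∧ ∃ a ∈ Cfsg.pCore s G, ∃ b ∈ Cfsg.pCore s G, a * b ≠ b * a := by
  by_contra hcon
  push Not at hcon
  have hab := fitting_comm (G := G) fun s hs a ha b hb => hcon s hs a ha b hb
  have hAn : (Cfsg.fittingSubgroup G).Normal := inferInstance
  have hd := deg_dvd ρ ht hAn hab
  have hne := hns _ hAn hab
  have hdpos := deg_pos ρ (Cfsg.fittingSubgroup G)
  have h2d : 2 * deg ρ (Cfsg.fittingSubgroup G) ≤ Module.finrank (ZMod q) V := by
    obtain ⟨k, hk⟩ := hd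
    rcases k with _ | _ | k
    · have := Module.finrank_pos (R := ZMod q) (M := V)
      omega
    · exact absurd (by omega) hne
    · rw [hk]; nlinarith
  have h1 := Nat.le_of_dvd Nat.card_pos (card_sub_one_dvd ρ ht)
  have hC : Nat.card (Subgroup.centralizer (Cfsg.fittingSubgroup G : Set G)) ≤
      q ^ deg ρ (Cfsg.fittingSubgroup G) - 1 :=
    (Subgroup.card_le_of_le Basics.centralizer_fittingSubgroup_le).trans
      (Nat.le_of_dvd (by
        have := Nat.one_lt_pow hdpos.ne' (Fact.out : q.Prime).one_lt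
        omega) (card_dvd ρ ht hρ hAn hab))
  have hI := Nat.le_of_dvd hdpos (index_centralizer_dvd ρ ht hρ hAn hab)
  have h3 := Nat.mul_le_mul hC hI
  rw [Subgroup.card_mul_index] at h3
  have h4 : q ^ (2 * deg ρ (Cfsg.fittingSubgroup G)) ≤ q ^ Module.finrank (ZMod q) V :=
    Nat.pow_le_pow_right (Fact.out : q.Prime).pos h2d
  have h5 : deg ρ (Cfsg.fittingSubgroup G) < q ^ deg ρ (Cfsg.fittingSubgroup G) :=
    Nat.lt_pow_self (Fact.out : q.Prime).one_lt
  rw [mul_comm 2, pow_mul, pow_two] at h4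
  generalize q ^ deg ρ (Cfsg.fittingSubgroup G) = Q at h3 h4 h5
  generalize deg ρ (Cfsg.fittingSubgroup G) = d at h3 h4 h5 hdpos
  obtain ⟨Q', rfl⟩ : ∃ Q', Q = Q' + 1 := ⟨Q - 1, by omega⟩
  rw [Nat.add_sub_cancel] at h3
  have : Q' * d ≤ Q' * Q' := Nat.mul_le_mul_left _ (by omega)
  have : (Q' + 1) * (Q' + 1) = Q' * Q' + 2 * Q' + 1 := by ring
  omega

/-- Dimension two. -/
lemma dim_two [Group.IsSolvable G] (ht : IsTrans ρ) (hρ : Function.Injective ρ)
    (hns : NoFullField ρ) (h2 : Module.finrank (ZMod q) V = 2) : q ≠ 2 ∧ q + 1 ∣ 24 := by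
  classical
  obtain ⟨s, hs, a₀, ha₀, b₀, hb₀, hab₀⟩ := exists_nonabelian_pCore ρ ht hρ hns
  have := Fact.mk hs
  obtain ⟨U, ⟨hU, hUs0, ⟨a, ha, b, hb, hab⟩⟩, hmin⟩ :=
    (Set.toFinite {M : Subgroup G | M.Normal ∧ M ≤ Cfsg.pCore s G ∧
      ∃ a ∈ M, ∃ b ∈ M, a * b ≠ b * a}).exists_minimal
      ⟨_, inferInstance, le_rfl, a₀, ha₀, b₀, hb₀, hab₀⟩
  have hUs : IsPGroup s U := (Basics.pCore_isPGroup s).to_le hUs0
  have hscal : ∀ M : Subgroup G, M.Normal → (∀ a ∈ M, ∀ b ∈ M, a * b = b * a) →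
      ∀ g : G, g ∈ Subgroup.centralizer (M : Set G) := by
    intro M hM hMab g
    have hd := deg_dvd ρ ht hM hMab
    have hne := hns M hM hMab
    rw [h2] at hd hne
    have h1 : deg ρ M = 1 := ((Nat.dvd_prime Nat.prime_two).1 hd).resolve_right hne
    have h3 := index_centralizer_dvd ρ ht hρ hM hMab
    rw [h1, Nat.dvd_one, Subgroup.index_eq_one] at h3
    rw [h3]; exact Subgroup.mem_top g
  obtain ⟨hcl, hpow⟩ := class_two_of_minimal hU hUs (fun h => hab (by
      rw [h, Subgroup.mem_bot] at ha hb; rw [ha, hb]))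
    (fun M hM hMU m hm => by
      have hMab : ∀ a ∈ M, ∀ b ∈ M, a * b = b * a := by
        by_contra hc
        push Not at hc
        exact hMU.2 (hmin ⟨hM, hMU.le.trans hUs0, hc⟩ hMU.le)
      exact mem_zc.2 ⟨hMU.le hm, fun u _ =>
        (Subgroup.mem_centralizer_iff.1 (hscal M hM hMab u) m hm).symm⟩)
  have hzcent := hscal (zc U) (zc_normal hU) (zc_comm U)
  have hN : ((zc U).subgroupOf U).Normal := (zc_normal hU).subgroupOf U
  have hWp : IsPGroup s (U ⧸ (zc U).subgroupOf U) := hUs.to_quotient _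
  obtain ⟨k, hk⟩ := IsPGroup.iff_card.1 hWp
  obtain ⟨hle, hext⟩ := bound ρ ht hρ hU hcl
  have hle' : Nat.card (U ⧸ (zc U).subgroupOf U) ≤ 4 := by
    have : (zc U).relIndex U ≤ 4 := by rw [h2] at hle; simpa using hle
    exact this
  have hk2 : 2 ≤ k := by
    by_contra hk2
    have hcyc : IsCyclic (U ⧸ (zc U).subgroupOf U) := by
      have : k = 0 ∨ k = 1 := by omega
      rcases this with rfl | rfl
      · rw [pow_zero] at hk
        have : Subsingleton (U ⧸ (zc U).subgroupOf U) := (Nat.card_eq_one_iff_unique.1 hk).1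
        infer_instance
      · rw [pow_one] at hk; exact isCyclic_of_prime_card hk
    exact hab (congrArg Subtype.val (commutative_of_cyclic_center_quotient
      (QuotientGroup.mk' ((zc U).subgroupOf U)) (by
        rw [QuotientGroup.ker_mk']
        intro u hu
        rw [Subgroup.mem_center_iff]
        exact fun v => Subtype.ext ((mem_zc.1 hu).2 _ v.2)) ⟨a, ha⟩ ⟨b, hb⟩))
  have hsk : s ^ 2 ≤ s ^ k := Nat.pow_le_pow_right hs.pos hk2
  have hs2 : s = 2 := by
    have := hs.two_le
    have : s * s ≤ 4 := by rw [← pow_two]; omega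
    nlinarith
  have hW : Nat.card (U ⧸ (zc U).subgroupOf U) = 4 := by rw [hs2] at hsk hk; omega
  subst hs2
  have hq2 : q ≠ 2 := by
    rintro rfl
    have := eq_bot_of_isPGroup ρ ht hρ hU hUs
    rw [this, Subgroup.mem_bot] at ha hb
    exact hab (by rw [ha, hb])
  refine ⟨hq2, ?_⟩
  have hC : Nat.card (Subgroup.centralizer (U : Set G)) ∣ q - 1 := by
    refine hext ?_
    rw [h2]
    exact le_of_eq hW.symm
  have hindex : (conjQuot hU).ker.index ∣ 6 := by
    rw [Subgroup.index_ker]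
    refine (Subgroup.card_subgroup_dvd_card _).trans ?_
    let f : MulAut (U ⧸ (zc U).subgroupOf U) →* Equiv.Perm {w : U ⧸ (zc U).subgroupOf U // w ≠ 1} :=
      { toFun := fun e => e.toEquiv.subtypeEquiv fun w => (map_ne_one_iff e e.injective).symm
        map_one' := Equiv.ext fun w => rfl
        map_mul' := fun e e' => Equiv.ext fun w => rfl }
    have hf : Function.Injective f := by
      intro e e' h
      refine MulEquiv.ext fun w => ?_
      by_cases hw : w = 1
      · rw [hw, map_one, map_one]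
      · exact congrArg Subtype.val (Equiv.congr_fun h ⟨w, hw⟩)
    refine (Subgroup.card_dvd_of_injective f hf).trans ?_
    have h3 : Nat.card {w : U ⧸ (zc U).subgroupOf U // w ≠ 1} = 3 := by
      show Nat.card ↥({1}ᶜ : Set (U ⧸ (zc U).subgroupOf U)) = 3
      rw [Nat.card_coe_set_eq, Set.ncard_compl, Set.ncard_singleton, hW]
    rw [Nat.card_perm, h3]
    decide
  have hker : Nat.card (conjQuot hU).ker ∣ (q - 1) * 4 := by
    letI := (isField ρ ht (zc_normal hU) (zc_comm U)).toField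
    let χ : zc U →* (algOf ρ (zc U))ˣ := MonoidHom.toHomUnits
      { toFun := fun a => ⟨opHom ρ a, opHom_mem ρ a.2⟩
        map_one' := Subtype.ext (map_one (opHom ρ))
        map_mul' := fun a b => Subtype.ext (map_mul (opHom ρ) _ _) }
    have hχ : Function.Injective χ := fun a b e =>
      Subtype.ext (opHom_injective ρ hρ (congrArg Subtype.val (congrArg Units.val e)))
    let tr : (conjQuot hU).ker → U → zc U := fun g u => ⟨_, mul_inv_mem_zc_of_fixed hU u
      (show conjQuot hU (g : G) (u : U ⧸ (zc U).subgroupOf U) = u by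
        rw [show conjQuot hU (g : G) = 1 from g.2]; rfl)⟩
    have hz : ∀ (g : G) (z : G), z ∈ zc U → g * z = z * g := fun g z hz =>
      (Subgroup.mem_centralizer_iff.1 (hzcent g) z hz).symm
    have htr : ∀ (g : (conjQuot hU).ker) (u : U),
        ((tr g u : zc U) : G) = (g : G) * u * (g : G)⁻¹ * (u : G)⁻¹ := fun g u => rfl
    have htrR : ∀ g u u', tr g (u * u') = tr g u * tr g u' := by
      intro g u u'
      apply Subtype.ext
      rw [Subgroup.coe_mul, htr, htr, htr, Subgroup.coe_mul]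
      have h1 := hz (u : G)⁻¹ _ (tr g u').2
      rw [htr] at h1
      calc (g : G) * (u * u') * (g : G)⁻¹ * ((u : G) * u')⁻¹
          = (g : G) * u * (g : G)⁻¹ * (((g : G) * u' * (g : G)⁻¹ * (u' : G)⁻¹) * (u : G)⁻¹) := by group
        _ = (g : G) * u * (g : G)⁻¹ * ((u : G)⁻¹ * ((g : G) * u' * (g : G)⁻¹ * (u' : G)⁻¹)) := by rw [h1]
        _ = _ := by group
    have htr1 : ∀ g (u : U), (u : G) ∈ zc U → tr g u = 1 := by
      intro g u hu
      apply Subtype.ext
      rw [htr, hz (g : G) u hu]; simp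
    let ψ₀ : (conjQuot hU).ker → (U ⧸ (zc U).subgroupOf U →* (algOf ρ (zc U))ˣ) := fun g =>
      QuotientGroup.lift _ (MonoidHom.mk' (fun u => χ (tr g u)) (fun u u' => by rw [htrR, map_mul]))
        (fun u hu => by show χ (tr g u) = 1; rw [htr1 g u hu, map_one])
    let ψ : (conjQuot hU).ker →* (U ⧸ (zc U).subgroupOf U →* (algOf ρ (zc U))ˣ) :=
      MonoidHom.mk' ψ₀ (fun g g' => MonoidHom.ext fun w => by
        obtain ⟨u, rfl⟩ := QuotientGroup.mk_surjective w
        show χ (tr (g * g') u) = χ (tr g u) * χ (tr g' u)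
        rw [← map_mul]
        congr 1
        apply Subtype.ext
        rw [Subgroup.coe_mul, htr, htr, htr, Subgroup.coe_mul]
        have h1 := hz (g : G) _ (tr g' u).2
        have h2 := zc_comm U _ (tr g' u).2 _ (tr g u).2
        rw [htr] at h1
        rw [htr, htr] at h2
        rw [← h2]
        calc (g : G) * g' * u * ((g : G) * g')⁻¹ * (u : G)⁻¹
            = ((g : G) * ((g' : G) * u * (g' : G)⁻¹ * (u : G)⁻¹)) * u * (g : G)⁻¹ * (u : G)⁻¹ := by group
          _ = _ := by rw [h1]; group)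
    rw [Subgroup.card_eq_card_quotient_mul_card_subgroup ψ.ker, mul_comm]
    refine Nat.mul_dvd_mul ?_ ?_
    · refine dvd_trans ?_ hC
      refine Subgroup.card_dvd_of_injective
        ((((conjQuot hU).ker.subtype).comp ψ.ker.subtype).codRestrict _ fun g =>
          Subgroup.mem_centralizer_iff.2 fun u hu => ?_)
        (fun g g' h => Subtype.ext (Subtype.ext
          (congrArg (fun z : Subgroup.centralizer (U : Set G) => (z : G)) h)))
      have h1 : χ (tr (g : (conjQuot hU).ker) ⟨u, hu⟩) = χ 1 :=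
        (DFunLike.congr_fun g.2 ((⟨u, hu⟩ : U) : U ⧸ (zc U).subgroupOf U)).trans (map_one χ).symm
      have h2 : (((g : (conjQuot hU).ker)) : G) * u * (((g : (conjQuot hU).ker)) : G)⁻¹ * u⁻¹ = 1 :=
        congrArg Subtype.val (hχ h1)
      rw [mul_inv_eq_one, mul_inv_eq_iff_eq_mul] at h2
      exact h2.symm
    · rw [Nat.card_congr (QuotientGroup.quotientKerEquivRange ψ).toEquiv]
      have : Finite (U ⧸ (zc U).subgroupOf U →* (algOf ρ (zc U))ˣ) :=
        Finite.of_injective _ DFunLike.coe_injective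
      have hle2 : Nat.card ψ.range ≤ 4 :=
        (Subgroup.card_le_card_group _).trans (card_hom_le.trans hW.le)
      have hp2 : IsPGroup 2 ψ.range := fun f => ⟨1, Subtype.ext (MonoidHom.ext fun w => by
        obtain ⟨u, rfl⟩ := QuotientGroup.mk_surjective w
        show (f : U ⧸ (zc U).subgroupOf U →* (algOf ρ (zc U))ˣ) u ^ 2 ^ 1 = 1
        rw [pow_one, ← map_pow, ← QuotientGroup.mk_pow,
          (mk_eq_one_iff (u ^ 2)).2 (by rw [Subgroup.coe_pow]; exact hpow _ u.2), map_one])⟩
      obtain ⟨j, hj⟩ := IsPGroup.iff_card.1 hp2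
      rw [hj] at hle2 ⊢
      have : j ≤ 2 := by
        by_contra hj2
        have : 2 ^ 3 ≤ 2 ^ j := Nat.pow_le_pow_right (by norm_num) (by omega)
        omega
      exact Nat.pow_dvd_pow 2 this
  have h1 := card_sub_one_dvd ρ ht
  rw [h2, ← (conjQuot hU).ker.card_mul_index] at h1
  have h3 := h1.trans (Nat.mul_dvd_mul hker hindex)
  have hq := (Fact.out : q.Prime).two_le
  rw [show q ^ 2 - 1 = (q - 1) * (q + 1) by
    obtain ⟨t, rfl⟩ : ∃ t, q = t + 1 := ⟨q - 1, by omega⟩
    have : (t + 1) ^ 2 = t * (t + 1 + 1) + 1 := by ring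
    simp only [Nat.add_sub_cancel]
    omega, mul_assoc] at h3
  exact Nat.dvd_of_mul_dvd_mul_left (by omega) h3

/-- An element of primitive prime order forces an extraspecial situation. -/
lemma primitive_case [Group.IsSolvable G] (ht : IsTrans ρ) (hρ : Function.Injective ρ)
    (hns : NoFullField ρ) (hn : 3 ≤ Module.finrank (ZMod q) V) {r : ℕ} (hr : r.Prime)
    (hdvd : r ∣ q ^ Module.finrank (ZMod q) V - 1)
    (hprim : ∀ k, 0 < k → k < Module.finrank (ZMod q) V → ¬ r ∣ q ^ k - 1) :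
    ∃ i : ℕ, r = Module.finrank (ZMod q) V + 1 ∧ Module.finrank (ZMod q) V = 2 ^ i ∧
      ¬ r ^ 2 ∣ Nat.card G ∧ q ≠ 2 := by
  set n := Module.finrank (ZMod q) V with hndef
  have := Fact.mk hr
  have hq := (Fact.out : q.Prime)
  have hq1 : ∀ k, ((q : ZMod r)) ^ k = 1 ↔ r ∣ q ^ k - 1 := fun k => by
    rw [← ZMod.natCast_eq_zero_iff, Nat.cast_sub (Nat.one_le_pow _ _ hq.pos), sub_eq_zero,
      Nat.cast_pow, Nat.cast_one]
  have hqn := (hq1 n).2 hdvd
  have hord : orderOf (q : ZMod r) = n := orderOf_eq_iff (by omega) |>.2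
    ⟨hqn, fun k hk hk0 h => hprim k hk0 hk ((hq1 k).1 h)⟩
  have hq0 : (q : ZMod r) ≠ 0 := fun h => by
    rw [h, zero_pow (by omega)] at hqn; exact zero_ne_one hqn
  have hnr : n < r := by
    have h1 : orderOf (q : ZMod r) ∣ r - 1 := orderOf_dvd_of_pow_eq_one (ZMod.pow_card_sub_one_eq_one hq0)
    rw [hord] at h1
    have := hr.two_le
    have := Nat.le_of_dvd (by omega) h1
    omega
  have hA : ∀ A : Subgroup G, A.Normal → (∀ a ∈ A, ∀ b ∈ A, a * b = b * a) → ¬ r ∣ Nat.card A := by
    intro A hAn hab h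
    have hle : deg ρ A ≤ n := Nat.le_of_dvd (by omega) (deg_dvd ρ ht hAn hab)
    exact hprim _ (deg_pos ρ A) (lt_of_le_of_ne hle (hns A hAn hab))
      (h.trans (card_dvd ρ ht hρ hAn hab))
  obtain ⟨x, hx⟩ := exists_prime_orderOf_dvd_card' (G := G) r (hdvd.trans (card_sub_one_dvd ρ ht))
  obtain ⟨s, hs, hxs⟩ : ∃ s : ℕ, s.Prime ∧ x ∉ Subgroup.centralizer (Cfsg.pCore s G : Set G) := by
    by_contra hc
    push Not at hc
    have hxz := mem_zc_fitting hc
    refine hA _ (zc_normal (U := Cfsg.fittingSubgroup G) inferInstance) (zc_comm _) ?_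
    have := orderOf_dvd_natCard (⟨x, hxz⟩ : zc (Cfsg.fittingSubgroup G))
    rwa [Subgroup.orderOf_mk, hx] at this
  have := Fact.mk hs
  have hrs : r ≠ s := by
    rintro rfl
    have hne : Nontrivial (Cfsg.pCore r G) := (Subgroup.nontrivial_iff_ne_bot _).2 fun h => hxs (by
      rw [h]; exact Subgroup.mem_centralizer_iff.2 fun a ha => by simp [Subgroup.mem_bot.1 ha])
    have := (Basics.pCore_isPGroup (G := G) r).center_nontrivial
    obtain ⟨c, hc⟩ := exists_ne (1 : Subgroup.center (Cfsg.pCore r G))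
    have hcz : ((c : Cfsg.pCore r G) : G) ∈ zc (Cfsg.pCore r G) := mem_zc.2 ⟨(c : Cfsg.pCore r G).2,
      fun u hu => congrArg Subtype.val (Subgroup.mem_center_iff.1 c.2 ⟨u, hu⟩)⟩
    obtain ⟨k, hk⟩ := (IsPGroup.iff_orderOf.1 (Basics.pCore_isPGroup (G := G) r)) c
    have h1 := orderOf_dvd_natCard (⟨_, hcz⟩ : zc (Cfsg.pCore r G))
    rw [Subgroup.orderOf_mk, Subgroup.orderOf_coe, hk] at h1
    rcases k with _ | k
    · rw [pow_zero, orderOf_eq_one_iff] at hk
      exact hc (Subtype.ext hk)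
    · exact hA _ (zc_normal (U := Cfsg.pCore r G) inferInstance) (zc_comm _) ((dvd_pow_self r k.succ_ne_zero).trans h1)
  obtain ⟨U, hU, hUs, hxU, hcl, hpow⟩ := exists_class_two hr hrs hx
    (inferInstance : (Cfsg.pCore s G).Normal) (Basics.pCore_isPGroup s) hxs
  obtain ⟨i, hri, hni, hsq⟩ := class_two ρ ht hρ hU hUs hcl hpow hr hrs (by omega) hnr hx hxU
    (fun h => hprim 1 one_pos (by omega) (by rwa [pow_one]))
  have hs2 : s = 2 := by
    rcases hs.eq_two_or_odd' with h | h
    · exact h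
    · exfalso
      have : Odd (s ^ i) := h.pow
      have hev : Even r := hri ▸ this.add_one
      have := (Nat.Prime.even_iff hr).1 hev
      omega
  subst hs2
  refine ⟨i, by omega, hni, hsq, ?_⟩
  rintro rfl
  apply hxU
  rw [eq_bot_of_isPGroup ρ ht hρ hU hUs]
  exact Subgroup.mem_centralizer_iff.2 fun a ha => by simp [Subgroup.mem_bot.1 ha]

/-- The space of order 64. -/
lemma two_six [Group.IsSolvable G] (ht : IsTrans ρ) (hρ : Function.Injective ρ)
    (hns : NoFullField ρ) (hq : q = 2) (hn : Module.finrank (ZMod q) V = 6) : False := by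
  classical
  subst hq
  have := Fact.mk (show Nat.Prime 7 by norm_num)
  obtain ⟨x, hx⟩ := exists_prime_orderOf_dvd_card' (G := G) 7
    ((by rw [hn]; norm_num : 7 ∣ 2 ^ Module.finrank (ZMod 2) V - 1).trans (card_sub_one_dvd ρ ht))
  by_cases hc : ∀ s : ℕ, s.Prime → x ∈ Subgroup.centralizer (Cfsg.pCore s G : Set G) ∨ s = 7
  swap
  · push Not at hc
    obtain ⟨s, hs, hxs, hs7⟩ := hc
    have := Fact.mk hs
    obtain ⟨U, hU, hUs, hxU, hcl, hpow⟩ := exists_class_two (by norm_num : Nat.Prime 7) (Ne.symm hs7) hx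
      (inferInstance : (Cfsg.pCore s G).Normal) (Basics.pCore_isPGroup s) hxs
    obtain ⟨i, hri, hni, -⟩ := class_two ρ ht hρ hU hUs hcl hpow (by norm_num : Nat.Prime 7)
      (Ne.symm hs7) (by omega) (by omega) hx hxU (by norm_num)
    rcases hs.eq_two_or_odd' with rfl | h
    · rw [hn] at hni
      rcases i with _ | _ | _ | i
      · simp at hni
      · simp at hni
      · simp at hni
      · rw [pow_succ, pow_succ, pow_succ] at hni
        omega
    · have : Odd (s ^ i) := h.pow
      rw [← hni, hn] at this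
      exact absurd this (by decide)
  -- an abelian normal subgroup of order seven
  obtain ⟨A, hA, hab, hA7⟩ : ∃ A : Subgroup G, A.Normal ∧ (∀ a ∈ A, ∀ b ∈ A, a * b = b * a) ∧
      7 ∣ Nat.card A := by
    by_cases hP : Cfsg.pCore 7 G = ⊥
    · refine ⟨zc (Cfsg.fittingSubgroup G), zc_normal inferInstance, zc_comm _, ?_⟩
      have hxz := mem_zc_fitting (x := x) fun s hs => by
        rcases hc s hs with h | rfl
        · exact h
        · rw [hP]; exact Subgroup.mem_centralizer_iff.2 fun a ha => by simp [Subgroup.mem_bot.1 ha]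
      have := orderOf_dvd_natCard (⟨x, hxz⟩ : zc (Cfsg.fittingSubgroup G))
      rwa [Subgroup.orderOf_mk, hx] at this
    · refine ⟨zc (Cfsg.pCore 7 G), zc_normal inferInstance, zc_comm _, ?_⟩
      have hne : Nontrivial (Cfsg.pCore 7 G) := (Subgroup.nontrivial_iff_ne_bot _).2 hP
      have := (Basics.pCore_isPGroup (G := G) 7).center_nontrivial
      obtain ⟨c, hc⟩ := exists_ne (1 : Subgroup.center (Cfsg.pCore 7 G))
      have hcz : ((c : Cfsg.pCore 7 G) : G) ∈ zc (Cfsg.pCore 7 G) := mem_zc.2 ⟨(c : Cfsg.pCore 7 G).2,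
        fun u hu => congrArg Subtype.val (Subgroup.mem_center_iff.1 c.2 ⟨u, hu⟩)⟩
      obtain ⟨k, hk⟩ := (IsPGroup.iff_orderOf.1 (Basics.pCore_isPGroup (G := G) 7)) c
      have h1 := orderOf_dvd_natCard (⟨_, hcz⟩ : zc (Cfsg.pCore 7 G))
      rw [Subgroup.orderOf_mk, Subgroup.orderOf_coe, hk] at h1
      rcases k with _ | k
      · rw [pow_zero, orderOf_eq_one_iff] at hk
        exact absurd (Subtype.ext hk) hc
      · exact (dvd_pow_self 7 k.succ_ne_zero).trans h1
  have hd := deg_dvd ρ ht hA hab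
  have hdn := hns A hA hab
  have hcd := card_dvd ρ ht hρ hA hab
  rw [hn] at hd hdn
  have hd3 : deg ρ A = 3 := by
    have := Nat.le_of_dvd (by norm_num) hd
    have h7 := hA7.trans hcd
    have := deg_pos ρ A
    interval_cases h : deg ρ A
    all_goals first | rfl | omega | (norm_num at h7) | (norm_num at hdn)
  have hAcard : Nat.card A = 7 := by
    rw [hd3] at hcd
    norm_num at hcd
    exact Nat.dvd_antisymm hcd hA7
  have hA7p : IsPGroup 7 A := IsPGroup.of_card (n := 1) (by rw [hAcard, pow_one])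
  have hAle : A ≤ Cfsg.pCore 7 G := by
    have := hA
    exact Basics.le_pCore hA7p
  have hidx := index_centralizer_dvd ρ ht hρ hA hab
  rw [hd3] at hidx
  obtain ⟨s, hs, a, ha, b, hb, hne⟩ := exists_nonabelian_pCore ρ ht hρ hns
  have := Fact.mk hs
  have hle : Cfsg.pCore s G ≤ Subgroup.centralizer (A : Set G) := by
    by_cases h7 : s = 7
    · subst h7
      intro g hg
      have hC : (Subgroup.centralizer (A : Set G)).Normal := by
        have := hA; exact Subgroup.normal_centralizer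
      rw [← QuotientGroup.eq_one_iff (N := Subgroup.centralizer (A : Set G)), ← orderOf_eq_one_iff]
      obtain ⟨k, hk⟩ := (IsPGroup.iff_orderOf.1 (Basics.pCore_isPGroup (G := G) 7)) ⟨g, hg⟩
      rw [Subgroup.orderOf_mk] at hk
      have h1 : orderOf (g : G ⧸ Subgroup.centralizer (A : Set G)) ∣ 7 ^ k :=
        hk ▸ orderOf_map_dvd (QuotientGroup.mk' _) g
      have h2 : orderOf (g : G ⧸ Subgroup.centralizer (A : Set G)) ∣ 3 :=
        (orderOf_dvd_natCard _).trans hidx
      exact Nat.Coprime.eq_one_of_dvd ((Nat.Coprime.pow_right k (by norm_num : Nat.Coprime 3 7)).coprime_dvd_left h2) h1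
    · intro g hg
      exact Subgroup.mem_centralizer_iff.2 fun a ha => (Basics.commute_pCore (Ne.symm h7) (hAle ha) hg).eq
  letI := (isField ρ ht hA hab).toField
  have hrank : Module.finrank (algOf ρ A) V = 2 := by
    have h1 := Module.finrank_mul_finrank (ZMod 2) (algOf ρ A) V
    rw [hn, show Module.finrank (ZMod 2) (algOf ρ A) = 3 from hd3] at h1
    omega
  have : Module.Finite (algOf ρ A) V := Module.Finite.of_finite
  let bs := Module.finBasisOfFinrankEq (algOf ρ A) V hrank
  let lin : Cfsg.pCore s G →* Module.End (algOf ρ A) V :=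
    { toFun := fun g =>
        { toFun := fun v => ρ (g : G) v
          map_add' := fun v w => map_add _ v w
          map_smul' := fun c v => by
            show ρ (g : G) ((c : Module.End (ZMod 2) V) v) = (c : Module.End (ZMod 2) V) (ρ (g : G) v)
            exact (DFunLike.congr_fun (commute_of_mem ρ (g : G)
              (fun a ha => Subgroup.mem_centralizer_iff.1 (hle g.2) a ha) c.2).eq v).symm }
      map_one' := LinearMap.ext fun v => by
        show ρ ((1 : Cfsg.pCore s G) : G) v = v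
        rw [OneMemClass.coe_one, map_one]; rfl
      map_mul' := fun g h => LinearMap.ext fun v => by
        show ρ ((g * h : Cfsg.pCore s G) : G) v = ρ (g : G) (ρ (h : G) v)
        rw [Subgroup.coe_mul, map_mul]; rfl }
  let mat : Cfsg.pCore s G →* (Matrix (Fin 2) (Fin 2) (algOf ρ A))ˣ :=
    ((LinearMap.toMatrixAlgEquiv bs).toMonoidHom.comp lin).toHomUnits
  have hmat : Function.Injective mat := fun g g' h => by
    have h1 : lin g = lin g' := (LinearMap.toMatrixAlgEquiv bs).injective (congrArg Units.val h)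
    exact Subtype.ext (hρ (LinearEquiv.ext fun v => LinearMap.congr_fun h1 v))
  have hdvd := Subgroup.card_dvd_of_injective mat hmat
  let _ : Fintype (algOf ρ A) := Fintype.ofFinite _
  rw [show Nat.card (Matrix (Fin 2) (Fin 2) (algOf ρ A))ˣ = Nat.card (Matrix.GeneralLinearGroup (Fin 2) (algOf ρ A))
    from rfl, Matrix.card_GL_field, ← Nat.card_eq_fintype_card, card_algOf, hd3] at hdvd
  simp [Fin.prod_univ_two] at hdvd
  obtain ⟨k, hk⟩ := IsPGroup.iff_card.1 (Basics.pCore_isPGroup (G := G) s)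
  rw [hk] at hdvd
  have hs2 : s ≠ 2 := by
    rintro rfl
    have := eq_bot_of_isPGroup ρ ht hρ inferInstance (Basics.pCore_isPGroup (G := G) 2)
    rw [this, Subgroup.mem_bot] at ha hb
    exact hne (by rw [ha, hb])
  have hk2 : k ≤ 2 := by
    by_contra hk2
    have h1 : s ^ 3 ∣ 3528 := (Nat.pow_dvd_pow s (by omega)).trans hdvd
    have h2 := Nat.le_of_dvd (by norm_num) h1
    have h3 : s < 16 := by
      by_contra h
      have := Nat.pow_le_pow_left (not_lt.1 h) 3
      omega
    have := hs.two_le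
    interval_cases s <;> first | omega | (norm_num at h1) | (norm_num at hs)
  refine hne ?_
  rcases (show k = 0 ∨ k = 1 ∨ k = 2 by omega) with rfl | rfl | rfl
  · have : Subsingleton (Cfsg.pCore s G) := (Nat.card_eq_one_iff_unique.1 (by simpa using hk)).1
    exact congrArg Subtype.val (Subsingleton.elim ((⟨a, ha⟩ : Cfsg.pCore s G) * ⟨b, hb⟩) (⟨b, hb⟩ * ⟨a, ha⟩))
  · have := isCyclic_of_prime_card (α := Cfsg.pCore s G) (p := s) (by rw [hk, pow_one])
    exact congrArg Subtype.val ((IsCyclic.commutative (α := Cfsg.pCore s G)).is_comm.comm (⟨a, ha⟩ : Cfsg.pCore s G) ⟨b, hb⟩)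
  · exact congrArg Subtype.val
      ((IsPGroup.isMulCommutative_of_card_eq_prime_sq hk).is_comm.comm (⟨a, ha⟩ : Cfsg.pCore s G) ⟨b, hb⟩)

lemma three_pow_gt : ∀ {h : ℕ}, 3 ≤ h → 4 * h + 1 < 3 ^ h := by
  intro h hh
  induction h, hh using Nat.le_induction with
  | base => norm_num
  | succ n hn ih => rw [pow_succ]; omega

/-- Huppert's theorem. -/
theorem huppert [Group.IsSolvable G] (ht : IsTrans ρ) (hρ : Function.Injective ρ) :
    (∃ (F : Type) (_ : Field F) (_ : Fintype F) (e : V ≃+ F),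
      ∀ g : G, ∃ (a : F) (σ : F ≃+* F), ∀ v : V, e (ρ g v) = a * σ (e v)) ∨
    Nat.card V ∈ ({9, 25, 49, 121, 529, 81} : Set ℕ) := by
  by_cases hns : NoFullField ρ
  swap
  · unfold NoFullField at hns
    push Not at hns
    obtain ⟨A, hA, hab, hd⟩ := hns
    exact Or.inl (semilinear ρ ht hA hab hd)
  right
  have hcard : Nat.card V = q ^ Module.finrank (ZMod q) V := by
    rw [Module.natCard_eq_pow_finrank (K := ZMod q), Nat.card_zmod]
  have hqp := (Fact.out : q.Prime)
  have hnpos : 0 < Module.finrank (ZMod q) V := Module.finrank_pos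
  have hn1 : Module.finrank (ZMod q) V ≠ 1 := by
    intro h1
    have hab : ∀ a ∈ (⊥ : Subgroup G), ∀ b ∈ (⊥ : Subgroup G), a * b = b * a := fun a ha b hb => by
      rw [Subgroup.mem_bot] at ha hb; rw [ha, hb]
    have hd := deg_dvd ρ ht (A := ⊥) inferInstance hab
    rw [h1, Nat.dvd_one] at hd
    exact hns ⊥ inferInstance hab (by rw [hd, h1])
  rcases Nat.lt_or_ge (Module.finrank (ZMod q) V) 3 with hn | hn
  · have h2 : Module.finrank (ZMod q) V = 2 := by omega
    obtain ⟨hq2, hdvd⟩ := dim_two ρ ht hρ hns h2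
    rw [hcard, h2]
    have := Nat.le_of_dvd (by norm_num) hdvd
    have := hqp.two_le
    have : q < 24 := by omega
    interval_cases q <;> first | omega | (norm_num at hdvd; done) | (norm_num at hqp; done) | simp
  · by_cases h6 : q = 2 ∧ Module.finrank (ZMod q) V = 6
    · exact (two_six ρ ht hρ hns h6.1 h6.2).elim
    set n := Module.finrank (ZMod q) V with hndef
    obtain ⟨r₀, hr₀, hd₀, hp₀⟩ := Zsig.exists_primitive_prime q n hqp.one_lt (by omega) h6 (by omega)
    obtain ⟨i, hr, hni, hsq, hq2⟩ := primitive_case ρ ht hρ hns hn hr₀ hd₀ hp₀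
    have hi : 2 ≤ i := by
      by_contra hi
      have : 2 ^ i ≤ 2 ^ 1 := Nat.pow_le_pow_right (by norm_num) (by omega)
      omega
    obtain ⟨j, rfl⟩ : ∃ j, i = j + 2 := ⟨i - 2, by omega⟩
    set h := 2 ^ (j + 1) with hh
    have hn2 : n = h + h := by
      have hni' : n = 2 ^ (j + 2) := hni
      rw [hh, hni', pow_succ 2 (j + 1)]; ring
    have hfac : q ^ n - 1 = (q ^ h + 1) * (q ^ h - 1) := by
      rw [hn2, pow_add]; simpa using Nat.mul_self_sub_mul_self_eq (q ^ h) 1
    have hhpos : 0 < h := Nat.two_pow_pos _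
    have huniq : ∀ t, t.Prime → t ∣ q ^ h + 1 → t = 2 ∨ t = r₀ := by
      intro t htp htd
      by_cases ht2 : t = 2
      · exact Or.inl ht2
      right
      have hprim : ∀ k, 0 < k → k < n → ¬ t ∣ q ^ k - 1 := by
        intro k hk0 hkn hk
        have := Fact.mk htp
        have hq1 : ∀ k, ((q : ZMod t)) ^ k = 1 ↔ t ∣ q ^ k - 1 := fun k => by
          rw [← ZMod.natCast_eq_zero_iff, Nat.cast_sub (Nat.one_le_pow _ _ hqp.pos), sub_eq_zero,
            Nat.cast_pow, Nat.cast_one]
        have h1 := orderOf_dvd_of_pow_eq_one ((hq1 n).2 (by rw [hfac]; exact dvd_mul_of_dvd_left htd _))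
        rw [show n = 2 ^ (j + 2) from hni] at h1
        obtain ⟨e, he, heq⟩ := (Nat.dvd_prime_pow Nat.prime_two).1 h1
        have h2 := orderOf_dvd_of_pow_eq_one ((hq1 k).2 hk)
        rw [heq] at h2
        have h3 : e ≤ j + 1 := by
          by_contra hcon
          have := Nat.le_of_dvd hk0 h2
          have : 2 ^ (j + 2) ≤ 2 ^ e := Nat.pow_le_pow_right (by norm_num) (by omega)
          omega
        have h4 : t ∣ q ^ h - 1 := (hq1 h).1 (by
          rw [← orderOf_dvd_iff_pow_eq_one, heq, hh]; exact Nat.pow_dvd_pow 2 h3)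
        have h5 := Nat.dvd_sub htd h4
        have := Nat.one_le_pow h q hqp.pos
        rw [show q ^ h + 1 - (q ^ h - 1) = 2 by omega] at h5
        exact ht2 ((Nat.prime_dvd_prime_iff_eq htp Nat.prime_two).1 h5)
      obtain ⟨-, h6, -⟩ := primitive_case ρ ht hρ hns hn htp
        (by rw [hfac]; exact dvd_mul_of_dvd_left htd _) hprim
      omega
    have hqodd : Odd q := hqp.odd_of_ne_two hq2
    obtain ⟨m, hm, hmo⟩ : ∃ m, q ^ h + 1 = 2 * m ∧ ¬ 2 ∣ m := by
      obtain ⟨c, hc⟩ := hqodd.pow (n := 2 ^ j)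
      have h1 : q ^ h = (q ^ 2 ^ j) ^ 2 := by rw [hh, ← pow_mul, pow_succ]
      refine ⟨2 * c * c + 2 * c + 1, by rw [h1, hc]; ring, ?_⟩
      have : 2 * c * c + 2 * c + 1 = 2 * (c * c + c) + 1 := by ring
      omega
    have hmdvd : m ∣ Nat.card G :=
      ((Dvd.intro_left 2 hm.symm).trans (by rw [hfac]; exact dvd_mul_right _ _)).trans (card_sub_one_dvd ρ ht)
    have hmr : m ≤ r₀ := by
      have hm0 : m ≠ 0 := by omega
      have h7 : m = r₀ ^ m.primeFactorsList.length := Nat.eq_prime_pow_of_unique_prime_dvd hm0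
        fun {d} hd hdd => by
          rcases huniq d hd (hdd.trans (Dvd.intro_left 2 hm.symm)) with rfl | h
          · exact absurd hdd hmo
          · exact h
      rcases Nat.lt_or_ge m.primeFactorsList.length 2 with hl | hl
      · have : r₀ ^ m.primeFactorsList.length ≤ r₀ ^ 1 := Nat.pow_le_pow_right hr₀.pos (by omega)
        rw [h7]; simpa using this
      · exact absurd ((Nat.pow_dvd_pow r₀ hl).trans (h7 ▸ hmdvd)) hsq
    have hq3 : 3 ≤ q := by have := hqp.two_le; omega
    have hqh : q ^ h ≤ 4 * h + 1 := by omega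
    have hh2 : h < 3 := by
      by_contra hcon
      have := three_pow_gt (not_lt.1 hcon)
      have := Nat.pow_le_pow_left hq3 h
      omega
    have hh2' : h = 2 := by
      have : 2 ^ 1 ≤ 2 ^ (j + 1) := Nat.pow_le_pow_right (by norm_num) (by omega)
      omega
    rw [hh2'] at hqh
    have : q = 3 := by
      by_contra hcon
      have := Nat.pow_le_pow_left (show 4 ≤ q by omega) 2
      omega
    rw [hcard, hn2, hh2', this]
    norm_num

end Cfsg.Agent.Recog.SemiLin
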